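import Mathlib
import Groth.Prelude.Def_SGA2
import Groth.Agent.LocH.Generization
import Groth.Agent.LocH.AdjDepthChange
import Groth.Agent.LocH.ChangeRings
import Groth.Agent.Catenary.CM
import Groth.Agent.CMFlat.Quotient

/-!
Codimensions and vanishing of local cohomology along a quotient of a regular ring.
-/

set_option autoImplicit false

namespace Groth.Agent.SGA2Fin

universe u

open CategoryTheory IsLocalRing

/-- Immediate specializations in a regular ring raise the height by one. -/
theorem height_eq_add_one_of_covBy {S : Type u} [CommRing S] [LocCoh.IsGorensteinRing S] {p q : PrimeSpectrum S} (hpq : p ⋖ q) :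
    q.asIdeal.height = p.asIdeal.height + 1 := by
  let R := Localization.AtPrime q.asIdeal
  haveI : LocCoh.IsCohenMacaulayLocalRing R := Goren.isCohenMacaulay R
  let e := Catenary.localizationEmbedding q.asIdeal.primeCompl R
  have hrange : Set.range e = {x : PrimeSpectrum S | x ≤ q} := by
    rw [Catenary.range_localizationEmbedding]
    ext x
    exact ⟨fun h z hz => by_contra fun hzq => Set.disjoint_left.mp h hzq hz,
      fun h => Set.disjoint_left.mpr fun z hz hzx => hz (h hzx)⟩
  obtain ⟨p', hp'⟩ : p ∈ Set.range e := by rw [hrange]; exact hpq.le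
  have hq' : e (closedPoint R) = q := PrimeSpectrum.ext (Localization.AtPrime.comap_maximalIdeal)
  have hlt : p' < closedPoint R := e.lt_iff_lt.mp (by rw [hp', hq']; exact hpq.lt)
  have hdim : ringKrullDim (R ⧸ p'.asIdeal) = 1 := by
    have h1 : ringKrullDim (R ⧸ p'.asIdeal) = (Order.coheight p' : WithBot ℕ∞) := by
      rw [ringKrullDim_quotient, Order.coheight_eq_krullDim_Ici]; rfl
    rw [h1, show (Order.coheight p' : ℕ∞) = 1 from ?_]
    · rfl
    refine le_antisymm (Order.coheight_le fun s hs => ?_) ?_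
    · by_contra hcon
      have hlen : 2 ≤ s.length := by
        rcases Nat.lt_or_ge s.length 2 with h | h
        · exact absurd (by exact_mod_cast (show s.length ≤ 1 by omega)) hcon
        · exact h
      have h1 : s.head < s ⟨1, by omega⟩ := s.strictMono (by simp [Fin.lt_def])
      have h2 : s ⟨1, by omega⟩ < s ⟨2, by omega⟩ := s.strictMono (by simp [Fin.lt_def])
      rw [hs] at h1
      refine hpq.2 (c := e (s ⟨1, by omega⟩)) (hp' ▸ e.lt_iff_lt.mpr h1) (lt_of_lt_of_eq (e.lt_iff_lt.mpr ?_) hq')
      exact h2.trans_le (le_maximalIdeal (s ⟨2, by omega⟩).2.ne_top)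
    · exact le_trans (by simp) (Order.length_le_coheight (x := p')
        (p := (RelSeries.singleton _ p').snoc (closedPoint R) hlt) (by simp))
  have h := Catenary.height_add_dim p'.asIdeal
  have hhp : p'.asIdeal.height = p.asIdeal.height := by
    rw [← hp']
    exact (IsLocalization.height_under q.asIdeal.primeCompl p'.asIdeal).symm
  rw [hdim, hhp, IsLocalization.AtPrime.ringKrullDim_eq_height q.asIdeal R, ← WithBot.coe_one, ← WithBot.coe_add,
    WithBot.coe_inj] at h
  rw [← h, add_comm]

variable {S A : Type u} [CommRing S] [LocCoh.IsGorensteinRing S] [CommRing A] [IsNoetherianRing A] [Algebra S A]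
  (hπ : Function.Surjective (algebraMap S A)) (M : Type u) [AddCommGroup M] [Module A M] [Module.Finite A M]
  [Module S M] [IsScalarTower S A M] [Module.Finite S M]

include hπ in
/-- Local cohomology at a prime of a quotient. -/
theorem subsingleton_H_comap (P : Ideal A) [P.IsPrime] (j : ℕ) :
    Subsingleton (LocCoh.H (maximalIdeal (Localization.AtPrime P)) j (LocalizedModule P.primeCompl M)) ↔
      Subsingleton (LocCoh.H (maximalIdeal (Localization.AtPrime (P.comap (algebraMap S A)))) j
        (LocalizedModule (P.comap (algebraMap S A)).primeCompl M)) := by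
  let p := P.comap (algebraMap S A)
  let Sp := Localization.AtPrime p
  let AP := Localization.AtPrime P
  let N := LocalizedModule P.primeCompl M
  let f : M →ₗ[S] N := (LocalizedModule.mkLinearMap P.primeCompl M).restrictScalars S
  have : IsLocalizedModule p.primeCompl f :=
    { map_units := fun x => by
        have hu := IsLocalizedModule.map_units (LocalizedModule.mkLinearMap P.primeCompl M)
          (⟨algebraMap S A x, x.2⟩ : P.primeCompl)
        rw [Module.End.isUnit_iff] at hu ⊢
        convert hu using 2 with z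
        exact (algebraMap_smul A (x : S) _).symm
      surj := fun z => by
        obtain ⟨⟨m, ⟨s, hs⟩⟩, h⟩ := IsLocalizedModule.surj P.primeCompl (LocalizedModule.mkLinearMap P.primeCompl M) z
        obtain ⟨s, rfl⟩ := hπ s
        exact ⟨⟨m, s, hs⟩, (algebraMap_smul A s z).symm.trans h⟩
      exists_of_eq := fun {x y} h => by
        obtain ⟨⟨s, hs⟩, h'⟩ := IsLocalizedModule.exists_of_eq (S := P.primeCompl) (f := LocalizedModule.mkLinearMap P.primeCompl M) h
        obtain ⟨s, rfl⟩ := hπ s
        exact ⟨⟨s, hs⟩, (algebraMap_smul A s x).symm.trans (h'.trans (algebraMap_smul A s y))⟩ }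
  have hunit : ∀ x : p.primeCompl, IsUnit (algebraMap S AP x) := fun x => by
    rw [IsScalarTower.algebraMap_apply S A AP]
    exact IsLocalization.map_units AP (⟨algebraMap S A x, x.2⟩ : P.primeCompl)
  let φ : Sp →+* AP := IsLocalization.lift (M := p.primeCompl) hunit
  algebraize [φ]
  have : IsScalarTower S Sp AP := IsScalarTower.of_algebraMap_eq fun r => (IsLocalization.lift_eq hunit r).symm
  letI : Module Sp N := Module.compHom N φ
  have : IsScalarTower Sp AP N := ⟨fun a b c => by rw [Algebra.smul_def, mul_smul]; rfl⟩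
  have : IsScalarTower S Sp N := ⟨fun a b c => by
    show φ (a • b) • c = a • φ b • c
    rw [Algebra.smul_def, map_mul, mul_smul, IsLocalization.lift_eq hunit, algebraMap_smul]⟩
  have hφ : Function.Surjective (algebraMap Sp AP) := fun a => by
    obtain ⟨⟨r, ⟨s, hs⟩⟩, h⟩ := IsLocalization.surj P.primeCompl a
    obtain ⟨r, rfl⟩ := hπ r
    obtain ⟨s, rfl⟩ := hπ s
    refine ⟨IsLocalization.mk' Sp r (⟨s, hs⟩ : p.primeCompl), ?_⟩
    refine (IsLocalization.lift_mk'_spec hunit _ _ _).2 ?_
    rw [IsScalarTower.algebraMap_apply S A AP, IsScalarTower.algebraMap_apply S A AP, mul_comm]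
    exact h.symm
  let e : LocalizedModule p.primeCompl M ≃ₗ[Sp] N :=
    (IsLocalizedModule.linearEquiv p.primeCompl (LocalizedModule.mkLinearMap p.primeCompl M) f).extendScalarsOfIsLocalization p.primeCompl Sp
  obtain ⟨ψ, -⟩ := LocH.exists_semilinearEquiv (R' := AP) (I := maximalIdeal Sp) j N
  refine Iff.trans ?_ (LocH.subsingleton_iff_of_iso (maximalIdeal Sp) j e.toModuleIso).symm
  rw [← LocH.map_maximalIdeal_of_surjective hφ]
  exact ψ.toEquiv.subsingleton_congr

omit [Module S M] [IsScalarTower S A M] [Module.Finite S M] in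
theorem subsingleton_H_of_height_lt (p : Ideal A) [p.IsPrime] {j : ℕ} (hj : p.height < (j : ℕ∞)) :
    Subsingleton (LocCoh.H (maximalIdeal (Localization.AtPrime p)) j (LocalizedModule p.primeCompl M)) := by
  refine LocH.subsingleton_of_supportDim_lt _ _ _ ((Module.supportDim_le_ringKrullDim _ _).trans_lt ?_)
  rw [IsLocalization.AtPrime.ringKrullDim_eq_height p]
  exact WithBot.coe_lt_coe.2 hj

include hπ in
/-- The codimension one case implies all cases. -/
theorem subsingleton_of_codim_one (I : Ideal A) (i : ℕ)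
    (h : ∀ p : PrimeSpectrum A, ¬ I ≤ p.asIdeal → SGA2.relCodim I p = 1 → ∀ j : ℕ, j + 1 = i →
      Subsingleton (LocCoh.H (maximalIdeal (Localization.AtPrime p.asIdeal)) j (LocalizedModule p.asIdeal.primeCompl M)))
    (p : PrimeSpectrum A) (hIp : ¬ I ≤ p.asIdeal) (c j : ℕ) (hc : SGA2.relCodim I p = c) (hj : j + c = i) :
    Subsingleton (LocCoh.H (maximalIdeal (Localization.AtPrime p.asIdeal)) j (LocalizedModule p.asIdeal.primeCompl M)) := by
  classical
  have hne : Nonempty {q : PrimeSpectrum A // p ≤ q ∧ I ≤ q.asIdeal} := by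
    by_contra hemp
    rw [not_nonempty_iff] at hemp
    rw [SGA2.relCodim, iInf_of_empty] at hc
    exact ENat.natCast_ne_top c hc.symm
  obtain ⟨⟨q, hpq, hIq⟩, hq⟩ := ENat.exists_eq_iInf
    (fun q : {q : PrimeSpectrum A // p ≤ q ∧ I ≤ q.asIdeal} => Order.height (⟨q.1, q.2.1⟩ : Set.Ici p))
  replace hq : Order.height (⟨q, hpq⟩ : Set.Ici p) = (c : ℕ∞) := hq.trans hc
  obtain ⟨l, hl, hlen⟩ := Order.exists_series_of_height_eq_coe _ hq
  subst hlen
  have hht : ∀ i : Fin (l.length + 1), Order.height (l i) = ((i : ℕ) : ℕ∞) := by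
    intro i
    refine le_antisymm ?_ (le_trans (by simp) (Order.length_le_height (p := l.take i) (by simp)))
    have h1 := LocH.height_add_length_le (l.drop i)
    rw [RelSeries.last_drop, hl, hq, RelSeries.head_drop, RelSeries.drop_length] at h1
    by_contra hcon
    rw [not_le, ← ENat.add_one_le_iff (ENat.natCast_ne_top _)] at hcon
    have h2 := (add_le_add_left hcon ((l.length - (i : ℕ) : ℕ) : ℕ∞)).trans h1
    have h2 : (i : ℕ) + 1 + (l.length - (i : ℕ)) ≤ l.length := by exact_mod_cast h2
    have := i.is_le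
    omega
  have hcov : ∀ i : Fin l.length, (l i.castSucc : PrimeSpectrum A) ⋖ (l i.succ : PrimeSpectrum A) := by
    intro i
    refine ⟨l.step i, fun z hz1 hz2 => ?_⟩
    let z' : Set.Ici p := ⟨z, (l i.castSucc).2.trans hz1.le⟩
    have h1 := (Order.height_add_one_le (show l i.castSucc < z' from hz1))
    have h2 := (Order.height_add_one_le (show z' < l i.succ from hz2))
    rw [hht] at h1 h2
    have h3 := (add_le_add_left h1 1).trans h2
    simp only [Fin.val_castSucc, Fin.val_succ] at h3
    have h4 : (((i : ℕ) + 1 + 1 : ℕ) : ℕ∞) ≤ (((i : ℕ) + 1 : ℕ) : ℕ∞) := by exact_mod_cast h3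
    rw [Nat.cast_le] at h4
    omega
  have hcovS : ∀ i : Fin l.length, PrimeSpectrum.comap (algebraMap S A) (l i.castSucc) ⋖
      PrimeSpectrum.comap (algebraMap S A) (l i.succ) := fun i => by
    let e := Catenary.surjectiveEmbedding (algebraMap S A) hπ
    refine ⟨e.lt_iff_lt.mpr (hcov i).1, fun z hz1 hz2 => ?_⟩
    obtain ⟨w, rfl⟩ : z ∈ Set.range e := by
      rw [Catenary.range_surjectiveEmbedding]
      exact (show RingHom.ker (algebraMap S A) ≤ (PrimeSpectrum.comap (algebraMap S A) (l i.castSucc).1).asIdeal from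
        Ideal.comap_mono bot_le).trans hz1.le
    exact (hcov i).2 (e.lt_iff_lt.mp hz1) (e.lt_iff_lt.mp hz2)
  have hhS : ∀ i : Fin (l.length + 1), (PrimeSpectrum.comap (algebraMap S A) (l i).1).asIdeal.height =
      (PrimeSpectrum.comap (algebraMap S A) p).asIdeal.height + ((i : ℕ) : ℕ∞) := by
    intro i
    induction i using Fin.induction with
    | zero =>
      have : ((l 0 : Set.Ici p) : PrimeSpectrum A) = p := by
        refine ((l 0).2.eq_or_lt.resolve_right fun hlt => ?_).symm
        have := Order.height_add_one_le (show (⟨p, Set.self_mem_Ici⟩ : Set.Ici p) < l 0 from hlt)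
        rw [hht] at this
        simp at this
      rw [this, Fin.val_zero, Nat.cast_zero, add_zero]
    | succ i ih =>
      rw [height_eq_add_one_of_covBy (hcovS i), ih, Fin.val_succ, Fin.val_castSucc, Nat.cast_add, Nat.cast_one, add_assoc]
  rcases h0 : l.length with _ | n
  · have hl0 : l 0 = (⟨q, hpq⟩ : Set.Ici p) := by
      rw [← hl]
      exact congrArg l (Fin.ext (by simp [h0]))
    have : q = p := by
      refine (hpq.eq_or_lt.resolve_right fun hlt => ?_).symm
      have := Order.height_add_one_le (show (⟨p, Set.self_mem_Ici⟩ : Set.Ici p) < ⟨q, hpq⟩ from hlt)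
      rw [hq, h0] at this
      simp at this
    exact absurd (this ▸ hIq) hIp
  let xi : Fin l.length := ⟨n, by omega⟩
  let x : PrimeSpectrum A := (l xi.castSucc).1
  have hpx : p ≤ x := (l xi.castSucc).2
  have hlast : (l xi.succ : PrimeSpectrum A) = q := by
    rw [show xi.succ = Fin.last l.length from Fin.ext (by simp [xi, h0])]
    exact congrArg Subtype.val hl
  have hIx : ¬ I ≤ x.asIdeal := fun hle => by
    have h1 : SGA2.relCodim I p ≤ Order.height (⟨x, hpx⟩ : Set.Ici p) :=
      iInf_le (fun q : {q : PrimeSpectrum A // p ≤ q ∧ I ≤ q.asIdeal} => Order.height (⟨q.1, q.2.1⟩ : Set.Ici p))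
        ⟨x, hpx, hle⟩
    rw [hc, show (⟨x, hpx⟩ : Set.Ici p) = l xi.castSucc from rfl, hht, Nat.cast_le, Fin.val_castSucc] at h1
    simp only [xi] at h1
    omega
  have hxq : x ⋖ q := hlast ▸ hcov xi
  have hx1 : SGA2.relCodim I x = 1 := by
    refine le_antisymm ?_ (le_iInf fun q' => ?_)
    · refine le_trans (iInf_le _ ⟨q, hxq.le, hIq⟩) (Order.height_le fun s hs => ?_)
      by_contra hcon
      have hlen : 2 ≤ s.length := by
        rcases Nat.lt_or_ge s.length 2 with h | h
        · exact absurd (by exact_mod_cast (show s.length ≤ 1 by omega)) hcon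
        · exact h
      have h1 : s ⟨0, by omega⟩ < s ⟨1, by omega⟩ := s.strictMono (by simp [Fin.lt_def])
      have h2 : s ⟨1, by omega⟩ < s ⟨s.length, by omega⟩ := s.strictMono (by simp [Fin.lt_def]; omega)
      have h2' : s ⟨1, by omega⟩ < (⟨q, hxq.le⟩ : Set.Ici x) := h2.trans_eq hs
      exact hxq.2 ((s ⟨0, by omega⟩).2.trans_lt h1) h2'
    · rw [ENat.one_le_iff_ne_zero, Ne, Order.height_eq_zero]
      intro hmin
      exact hIx ((hmin (show (⟨x, Set.self_mem_Ici⟩ : Set.Ici x) ≤ ⟨q'.1, q'.2.1⟩ from q'.2.1) : (⟨q'.1, q'.2.1⟩ : Set.Ici x) ≤ ⟨x, Set.self_mem_Ici⟩) |> fun hle => q'.2.2.trans hle)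
  have key := h x hIx hx1 (i - 1) (by omega)
  rw [subsingleton_H_comap hπ M p.asIdeal j]
  rw [subsingleton_H_comap hπ M x.asIdeal (i - 1)] at key
  obtain ⟨hp, hhp⟩ := ENat.ne_top_iff_exists.1 ((PrimeSpectrum.comap (algebraMap S A) p).asIdeal.height_ne_top
    (PrimeSpectrum.comap (algebraMap S A) p).isPrime.ne_top)
  by_cases hjp : hp < j
  · exact subsingleton_H_of_height_lt M (p.asIdeal.comap (algebraMap S A)) (by
      refine lt_of_eq_of_lt hhp.symm ?_
      exact_mod_cast hjp)
  refine LocH.van_generization (hp - j) M _ (x.asIdeal.comap (algebraMap S A)) (Ideal.comap_mono hpx) ?_ j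
    (by rw [Nat.add_sub_cancel' (not_lt.1 hjp)]; exact hhp)
  intro j' hj'
  have hx' := hhS xi.castSucc
  rw [← hhp, ← Nat.cast_add] at hx'
  have : ((j' + (hp - j) : ℕ) : ℕ∞) = ((hp + n : ℕ) : ℕ∞) := hj'.trans hx'
  rw [Nat.cast_inj] at this
  obtain rfl : j' = i - 1 := by omega
  exact key

end Groth.Agent.SGA2Fin
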