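import Mathlib
import Groth.Agent.CechX.HomTot
import Groth.Agent.LocH.Generization

/-!
The dual of a finite projective resolution, and its cohomology at primes where local cohomology vanishes.
-/

set_option autoImplicit false

namespace Groth.Agent.SGA2Fin

universe u

open CategoryTheory CategoryTheory.Limits IsLocalRing CochainComplex.HomComplex

variable {R : Type u} [CommRing R] [IsNoetherianRing R]

/-- A bundled finite module. -/
structure FMod (R : Type u) [CommRing R] : Type (u + 1) where
  /-- the module -/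
  X : ModuleCat.{u} R
  fin : Module.Finite R X

theorem exists_cover (K : FMod R) : ∃ (P : FMod R) (π : P.X →ₗ[R] K.X),
    Function.Surjective π ∧ Module.Projective R P.X ∧ (Module.Projective R K.X → Function.Injective π) := by
  by_cases h : Module.Projective R K.X
  · exact ⟨K, LinearMap.id, Function.surjective_id, h, fun _ => Function.injective_id⟩
  · have := K.fin
    obtain ⟨n, π, hπ⟩ := Module.Finite.exists_fin' R K.X
    exact ⟨⟨ModuleCat.of R (Fin n → R), inferInstanceAs (Module.Finite R (Fin n → R))⟩, π, hπ,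
      inferInstanceAs (Module.Projective R (Fin n → R)), fun h' => absurd h' h⟩

/-- The chosen cover. -/
noncomputable def coverMod (K : FMod R) : FMod R := (exists_cover K).choose

/-- The chosen surjection. -/
noncomputable def coverMap (K : FMod R) : (coverMod K).X →ₗ[R] K.X := (exists_cover K).choose_spec.choose

/-- The next syzygy. -/
noncomputable def nextSyz (K : FMod R) : FMod R :=
  ⟨ModuleCat.of R (LinearMap.ker (coverMap K)), by
    have := (coverMod K).fin
    exact Module.Finite.iff_fg.2 (IsNoetherian.noetherian (LinearMap.ker (coverMap K)))⟩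

variable (M : FMod R)

/-- The syzygies. -/
noncomputable def syz : ℕ → FMod R
  | 0 => M
  | n + 1 => nextSyz (syz n)

/-- The terms of the resolution. -/
noncomputable def res (n : ℕ) : FMod R := coverMod (syz M n)

/-- The surjections onto syzygies. -/
noncomputable def resπ (n : ℕ) : (res M n).X →ₗ[R] (syz M n).X := coverMap (syz M n)

/-- The inclusion of the next syzygy. -/
noncomputable def resι (n : ℕ) : (syz M (n + 1)).X →ₗ[R] (res M n).X :=
  (LinearMap.ker (coverMap (syz M n))).subtype

theorem resπ_surjective (n : ℕ) : Function.Surjective (resπ M n) := (exists_cover (syz M n)).choose_spec.choose_spec.1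

instance (n : ℕ) : Module.Projective R (res M n).X := (exists_cover (syz M n)).choose_spec.choose_spec.2.1

instance (n : ℕ) : Module.Finite R (res M n).X := (res M n).fin

instance (n : ℕ) : Module.Finite R (syz M n).X := (syz M n).fin

theorem resι_injective (n : ℕ) : Function.Injective (resι M n) :=
  (LinearMap.ker (coverMap (syz M n))).injective_subtype

theorem exact_resι_resπ (n : ℕ) : Function.Exact (resι M n) (resπ M n) :=
  LinearMap.exact_subtype_ker_map _

/-- The differentials. -/
noncomputable def resd (n : ℕ) : (res M (n + 1)).X →ₗ[R] (res M n).X := resι M n ∘ₗ resπ M (n + 1)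

theorem resd_resd (n : ℕ) (x : (res M (n + 2)).X) : resd M n (resd M (n + 1) x) = 0 := by
  show resι M n (resπ M (n + 1) (resι M (n + 1) _)) = 0
  rw [(exact_resι_resπ M (n + 1)).apply_apply_eq_zero, map_zero]

theorem exists_resd_eq (n : ℕ) (x : (res M (n + 1)).X) (hx : resd M n x = 0) : ∃ y, resd M (n + 1) y = x := by
  obtain ⟨z, rfl⟩ := (exact_resι_resπ M (n + 1) x).1 (resι_injective M n (hx.trans (map_zero _).symm))
  obtain ⟨y, rfl⟩ := resπ_surjective M (n + 2) z
  exact ⟨y, rfl⟩

theorem exists_resd_eq_zero (x : (res M 0).X) (hx : resπ M 0 x = 0) : ∃ y, resd M 0 y = x := by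
  obtain ⟨z, rfl⟩ := (exact_resι_resπ M 0 x).1 hx
  obtain ⟨y, rfl⟩ := resπ_surjective M 1 z
  exact ⟨y, rfl⟩

theorem pdLE_syz : ∀ (r n : ℕ), n ≤ r → SerreReg.PdLE R M.X r → SerreReg.PdLE R (syz M n).X (r - n)
  | r, 0, _, h => h
  | r, n + 1, hn, h => by
    have := pdLE_syz r n (by omega) h
    rw [show r - n = r - (n + 1) + 1 by omega, SerreReg.pdLE_succ_iff (resπ M n) (resπ_surjective M n)] at this
    exact this

theorem subsingleton_res {r : ℕ} (hr : SerreReg.PdLE R M.X r) : ∀ n, r < n → Subsingleton (res M n).X := by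
  have h0 : Module.Projective R (syz M r).X := by
    have := pdLE_syz M r r le_rfl hr
    rwa [Nat.sub_self, SerreReg.pdLE_zero_iff] at this
  have hs : ∀ n, r < n → Subsingleton (syz M n).X := by
    intro n hn
    obtain ⟨m, rfl⟩ := Nat.exists_eq_add_of_le (Nat.succ_le_of_lt hn)
    induction m with
    | zero =>
      refine subsingleton_of_forall_eq 0 fun x => resι_injective M r ?_
      rw [map_zero]
      exact (exists_cover (syz M r)).choose_spec.choose_spec.2.2 h0
        (((exact_resι_resπ M r).apply_apply_eq_zero x).trans (map_zero (resπ M r)).symm)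
    | succ m ih =>
      have := ih (by omega)
      have hP : Module.Projective R (syz M (r + 1 + m)).X := Module.Projective.of_free
      refine subsingleton_of_forall_eq 0 fun x => resι_injective M (r + 1 + m) ?_
      rw [map_zero]
      exact (exists_cover (syz M (r + 1 + m))).choose_spec.choose_spec.2.2 hP
        (Subsingleton.elim (resπ M (r + 1 + m) (resι M (r + 1 + m) x)) (resπ M (r + 1 + m) 0))
  intro n hn
  have := hs n hn
  have hP : Module.Projective R (syz M n).X := Module.Projective.of_free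
  exact ((exists_cover (syz M n)).choose_spec.choose_spec.2.2 hP).subsingleton

/-- The terms of the dual complex. -/
noncomputable def dualX : ℤ → ModuleCat.{u} R
  | (n : ℕ) => ModuleCat.of R ((res M n).X →ₗ[R] R)
  | .negSucc _ => ModuleCat.of R PUnit

/-- The differentials of the dual complex. -/
noncomputable def dualD : (k : ℤ) → (dualX M k ⟶ dualX M (k + 1))
  | (n : ℕ) => ModuleCat.ofHom (Y := (res M (n + 1)).X →ₗ[R] R) (LinearMap.lcomp R R (resd M n))
  | .negSucc _ => 0

theorem dualD_dualD (k : ℤ) : dualD M k ≫ dualD M (k + 1) = 0 := by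
  cases k with
  | ofNat n =>
    refine ModuleCat.hom_ext (LinearMap.ext fun φ => ?_)
    change (res M n).X →ₗ[R] R at φ
    refine LinearMap.ext fun x => ?_
    show φ (resd M n (resd M (n + 1) x)) = 0
    rw [resd_resd]
    exact map_zero φ
  | negSucc n => exact zero_comp

/-- The dual complex. -/
noncomputable def dualCx : CochainComplex (ModuleCat.{u} R) ℤ :=
  CochainComplex.of (dualX M) (dualD M) (dualD_dualD M)

theorem dualCx_d (n : ℕ) (φ : (res M n).X →ₗ[R] R) :
    ((dualCx M).d (n : ℤ) ((n + 1 : ℕ) : ℤ)).hom φ = φ ∘ₗ resd M n := by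
  have h : (dualCx M).d (n : ℤ) ((n : ℤ) + 1) = dualD M (n : ℤ) := by
    unfold dualCx
    exact CochainComplex.of_d (dualX M) (dualD M) (n : ℤ)
  exact congrArg (fun k => k.hom φ) h

theorem projective_dualCx (k : ℤ) : Module.Projective R ((dualCx M).X k) ∧ Module.Finite R ((dualCx M).X k) := by
  cases k with
  | ofNat n => exact ⟨inferInstanceAs (Module.Projective R ((res M n).X →ₗ[R] R)), inferInstanceAs (Module.Finite R ((res M n).X →ₗ[R] R))⟩
  | negSucc n => exact ⟨inferInstanceAs (Module.Projective R PUnit.{u + 1}), inferInstanceAs (Module.Finite R PUnit.{u + 1})⟩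

theorem subsingleton_dualCx_neg {k : ℤ} (hk : k < 0) : Subsingleton ((dualCx M).X k) := by
  cases k with
  | ofNat n => exact absurd hk (not_lt.2 (Int.natCast_nonneg n))
  | negSucc n => exact inferInstanceAs (Subsingleton PUnit.{u + 1})

theorem subsingleton_dualCx_gt {r : ℕ} (hr : SerreReg.PdLE R M.X r) {k : ℤ} (hk : (r : ℤ) < k) :
    Subsingleton ((dualCx M).X k) := by
  cases k with
  | ofNat n =>
    have := subsingleton_res M hr n (Int.ofNat_lt.1 hk)
    exact inferInstanceAs (Subsingleton ((res M n).X →ₗ[R] R))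
  | negSucc n => exact inferInstanceAs (Subsingleton PUnit.{u + 1})

theorem isKProjective_dualCx {r : ℕ} (hr : SerreReg.PdLE R M.X r) : (dualCx M).IsKProjective := by
  have : (dualCx M).IsStrictlyLE (r : ℤ) := by
    rw [CochainComplex.isStrictlyLE_iff]
    intro i hi
    have := subsingleton_dualCx_gt M hr hi
    exact ModuleCat.isZero_of_subsingleton _
  have : ∀ n, Projective ((dualCx M).X n) := fun n => by
    have := (projective_dualCx M n).1
    exact (IsProjective.iff_projective _).1 this
  exact CochainComplex.isKProjective_of_projective (dualCx M) (r : ℤ)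

/-- Evaluation of a degree `-n` cochain. -/
noncomputable def evalAt (n : ℕ) (p : ℤ) (h : (n : ℤ) + p = 0) :
    Cochain (dualCx M) (CechX.single0 (ModuleCat.of R R)) p →ₗ[R] (res M n).X :=
  (Module.evalEquiv R (res M n).X).symm.toLinearMap ∘ₗ
    { toFun := fun z => ((z.v (n : ℤ) 0 h ≫ (HomologicalComplex.singleObjXSelf (ComplexShape.up ℤ) 0 (ModuleCat.of R R)).hom).hom :
        ((res M n).X →ₗ[R] R) →ₗ[R] R)
      map_add' := fun z w => by
        simp only [Cochain.add_v, Preadditive.add_comp, ModuleCat.hom_add]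
        rfl
      map_smul' := fun r z => by
        simp only [Cochain.smul_v, Linear.smul_comp, ModuleCat.hom_smul, RingHom.id_apply]
        rfl }

theorem apply_evalAt (n : ℕ) (p : ℤ) (h : (n : ℤ) + p = 0)
    (z : Cochain (dualCx M) (CechX.single0 (ModuleCat.of R R)) p) (φ : (res M n).X →ₗ[R] R) :
    φ (evalAt M n p h z) =
      (z.v (n : ℤ) 0 h ≫ (HomologicalComplex.singleObjXSelf (ComplexShape.up ℤ) 0 (ModuleCat.of R R)).hom).hom φ :=
  Module.apply_evalEquiv_symm_apply (R := R) (M := (res M n).X) φ _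

theorem evalAt_injective (n : ℕ) (p : ℤ) (h : (n : ℤ) + p = 0) : Function.Injective (evalAt M n p h) := by
  rw [injective_iff_map_eq_zero]
  intro z hz
  ext a b hab x
  rcases eq_or_ne b 0 with rfl | hb
  · obtain rfl : a = (n : ℤ) := by lia
    apply ((HomologicalComplex.singleObjXSelf (ComplexShape.up ℤ) 0 (ModuleCat.of R R)).toLinearEquiv).injective
    refine (apply_evalAt M n p h z x).symm.trans ?_
    rw [hz, map_zero]
    exact (map_zero _).symm
  · exact (ModuleCat.subsingleton_of_isZero (HomologicalComplex.isZero_single_obj_X (ComplexShape.up ℤ) 0 _ b hb)).elim _ _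

theorem evalAt_surjective (n : ℕ) (p : ℤ) (h : (n : ℤ) + p = 0) : Function.Surjective (evalAt M n p h) := by
  intro y
  refine ⟨Cochain.single (K := dualCx M) (L := CechX.single0 (ModuleCat.of R R)) (p := (n : ℤ)) (q := 0)
    (ModuleCat.ofHom (Module.Dual.eval R (res M n).X y) ≫
      (HomologicalComplex.singleObjXSelf (ComplexShape.up ℤ) 0 (ModuleCat.of R R)).inv) p, ?_⟩
  refine (Module.evalEquiv R (res M n).X).injective (LinearMap.ext fun φ => ?_)
  refine (apply_evalAt M n p h _ φ).trans ?_
  rw [Cochain.single_v]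
  simp
  rfl

theorem evalAt_δ (n : ℕ) (p : ℤ) (h : ((n + 1 : ℕ) : ℤ) + p = 0) (h' : (n : ℤ) + (p + 1) = 0)
    (z : Cochain (dualCx M) (CechX.single0 (ModuleCat.of R R)) p) :
    evalAt M n (p + 1) h' (δ p (p + 1) z) = (p + 1).negOnePow • resd M n (evalAt M (n + 1) p h z) := by
  refine (Module.evalEquiv R (res M n).X).injective (LinearMap.ext fun φ => ?_)
  refine (apply_evalAt M n (p + 1) h' _ φ).trans ?_
  have e1 : φ (resd M n (evalAt M (n + 1) p h z)) =
      (z.v ((n + 1 : ℕ) : ℤ) 0 h ≫ (HomologicalComplex.singleObjXSelf (ComplexShape.up ℤ) 0 (ModuleCat.of R R)).hom).hom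
        (((dualCx M).d (n : ℤ) ((n + 1 : ℕ) : ℤ)).hom φ) := by
    exact (apply_evalAt M (n + 1) p h z (φ ∘ₗ resd M n)).trans (congrArg _ (dualCx_d M n φ).symm)
  refine Eq.trans ?_ (show ((p + 1).negOnePow : ℤ) • φ (resd M n (evalAt M (n + 1) p h z)) = _ from
    (map_zsmul φ _ _).symm)
  rw [e1]
  rw [δ_v p (p + 1) rfl z (n : ℤ) 0 h' (-1) ((n + 1 : ℕ) : ℤ) (by lia) (by lia)]
  simp [Units.smul_def]

theorem evalAt_δ' (n : ℕ) (p p' : ℤ) (hp : p + 1 = p') (h : ((n + 1 : ℕ) : ℤ) + p = 0) (h' : (n : ℤ) + p' = 0)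
    (z : Cochain (dualCx M) (CechX.single0 (ModuleCat.of R R)) p) :
    evalAt M n p' h' (δ p p' z) = p'.negOnePow • resd M n (evalAt M (n + 1) p h z) := by
  subst hp
  exact evalAt_δ M n p h h' z

/-- The augmentation. -/
noncomputable def aug : CechX.dualTot (dualCx M) ⟶ CechX.single0 M.X :=
  HomologicalComplex.mkHomToSingle (ModuleCat.ofHom (resπ M 0 ∘ₗ evalAt M 0 0 rfl)) fun i (hi : i + 1 = 0) => by
    obtain rfl : i = -1 := by lia
    refine ModuleCat.hom_ext (LinearMap.ext fun z => ?_)
    show resπ M 0 (evalAt M 0 0 rfl ((CechX.dualTot (dualCx M)).d (-1) 0 z)) = 0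
    rw [CechX.homCx_d_apply (by lia : (-1 : ℤ) + 1 = 0)]
    show resπ M 0 (evalAt M 0 (-1 + 1) rfl (δ (-1) (-1 + 1) z)) = 0
    rw [evalAt_δ M 0 (-1) rfl rfl, Units.smul_def, map_zsmul]
    show _ • resπ M 0 (resι M 0 _) = 0
    rw [(exact_resι_resπ M 0).apply_apply_eq_zero, smul_zero]

theorem dualTot_eq_zero {p : ℤ} (hp : 0 < p) (x : (CechX.dualTot (dualCx M)).X p) : x = 0 := by
  refine Cochain.ext _ _ fun a b hab => ModuleCat.hom_ext (LinearMap.ext fun y => ?_)
  rcases eq_or_ne b 0 with rfl | hb
  · have := subsingleton_dualCx_neg M (k := a) (by lia)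
    rw [Subsingleton.elim y 0, map_zero, map_zero]
  · exact (ModuleCat.subsingleton_of_isZero (HomologicalComplex.isZero_single_obj_X (ComplexShape.up ℤ) 0 _ b hb)).elim _ _

theorem aug_f_zero (z : (CechX.dualTot (dualCx M)).X 0) : ((aug M).f 0).hom z =
    (HomologicalComplex.singleObjXSelf (ComplexShape.up ℤ) 0 M.X).inv.hom (resπ M 0 (evalAt M 0 0 rfl z)) := by
  rw [aug, HomologicalComplex.mkHomToSingle_f]
  rfl

theorem qIso_aug : CechX.QIso (aug M) := by
  let e := (HomologicalComplex.singleObjXSelf (ComplexShape.up ℤ) 0 M.X).toLinearEquiv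
  constructor
  · intro q p hqp x' hx'
    rcases eq_or_ne p 0 with rfl | hp
    · obtain ⟨y, hy⟩ := resπ_surjective M 0 (e x')
      obtain ⟨z, hz⟩ := evalAt_surjective M 0 0 rfl y
      refine ⟨z, dualTot_eq_zero M (by lia) _, 0, ?_⟩
      rw [map_zero, eq_comm, sub_eq_zero]
      refine Eq.trans ?_ (aug_f_zero M z).symm
      rw [hz, hy]
      exact (e.symm_apply_apply x').symm
    · refine ⟨0, map_zero _, 0, ?_⟩
      exact (ModuleCat.subsingleton_of_isZero (HomologicalComplex.isZero_single_obj_X (ComplexShape.up ℤ) 0 _ p hp)).elim _ _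
  · intro q p hqp x hx y' hy'
    rcases lt_trichotomy p 0 with hp | rfl | hp
    · obtain ⟨n, rfl⟩ : ∃ n : ℕ, p = -((n + 1 : ℕ) : ℤ) := ⟨(-p).toNat - 1, by lia⟩
      have h0 : resd M n (evalAt M (n + 1) _ (add_neg_cancel _) x) = 0 := by
        have h1 := evalAt_δ M n _ (add_neg_cancel _) (by lia) x
        rw [CechX.homCx_d_apply rfl] at hx
        have hx' : δ (-((n + 1 : ℕ) : ℤ)) (-((n + 1 : ℕ) : ℤ) + 1) x = 0 := hx
        rw [hx', map_zero, eq_comm, Units.smul_def] at h1
        rcases Int.units_eq_one_or (-((n + 1 : ℕ) : ℤ) + 1).negOnePow with h2 | h2 <;> simpa [h2] using h1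
      obtain ⟨y, hy⟩ := exists_resd_eq M n _ h0
      obtain ⟨z, hz⟩ := evalAt_surjective M (n + 2) q (by lia) y
      refine ⟨(q + 1).negOnePow • z, ?_⟩
      obtain rfl : q = -((n + 1 : ℕ) : ℤ) - 1 := by lia
      rw [CechX.homCx_d_apply (by lia)]
      refine evalAt_injective M (n + 1) _ (add_neg_cancel _) ?_
      rw [δ_units_smul, Units.smul_def, map_zsmul]
      rw [evalAt_δ' M (n + 1) (-((n + 1 : ℕ) : ℤ) - 1) (-((n + 1 : ℕ) : ℤ)) (by lia) (by lia) (add_neg_cancel _) z,
        hz, hy, ← Units.smul_def, smul_smul]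
      simp [Int.units_mul_self, sub_add_cancel]
    · have h0 : resπ M 0 (evalAt M 0 0 rfl x) = 0 := by
        have hy0 : y' = 0 := (ModuleCat.subsingleton_of_isZero
          (HomologicalComplex.isZero_single_obj_X (ComplexShape.up ℤ) 0 _ q (by lia))).elim _ _
        rw [hy0, map_zero] at hy'
        exact e.symm.injective (((aug_f_zero M x).symm.trans hy'.symm).trans (map_zero _).symm)
      obtain ⟨y, hy⟩ := exists_resd_eq_zero M _ h0
      obtain rfl : q = -1 := by lia
      obtain ⟨z, hz⟩ := evalAt_surjective M 1 (-1) rfl y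
      refine ⟨z, ?_⟩
      rw [CechX.homCx_d_apply (by lia : (-1 : ℤ) + 1 = 0)]
      refine evalAt_injective M 0 0 rfl ?_
      show evalAt M 0 (-1 + 1) rfl (δ (-1) (-1 + 1) z) = _
      rw [evalAt_δ M 0 (-1) rfl rfl, hz, hy]
      simp
    · exact ⟨0, by rw [map_zero, dualTot_eq_zero M hp x]⟩

section Kill

variable {S : Type u} [CommRing S] [LocCoh.IsGorensteinRing S]

open Groth.Agent.LocH

variable {P K : Type u} [AddCommGroup P] [Module S P] [Module.Finite S P] [Module.Projective S P] [AddCommGroup K]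
  [Module S K] [Module.Finite S K] (π : P →ₗ[S] K) (hπ : Function.Surjective π) (x : Ideal S) [x.IsPrime]

/-- The localised sequence. -/
noncomputable def locSES : ShortComplex (ModuleCat.{u} (Localization.AtPrime x)) :=
  ShortComplex.mk
    (ModuleCat.ofHom (X := LocalizedModule x.primeCompl (LinearMap.ker π)) (Y := LocalizedModule x.primeCompl P)
      (LocalizedModule.map x.primeCompl (LinearMap.ker π).subtype))
    (ModuleCat.ofHom (X := LocalizedModule x.primeCompl P) (Y := LocalizedModule x.primeCompl K)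
      (LocalizedModule.map x.primeCompl π))
    (ModuleCat.hom_ext (LinearMap.ext fun x' =>
      (LocalizedModule.map_exact x.primeCompl _ _ (LinearMap.exact_subtype_ker_map π)).apply_apply_eq_zero x'))

include hπ in
theorem locSES_shortExact : (locSES π x).ShortExact :=
  { exact := (ShortComplex.ShortExact.moduleCat_exact_iff_function_exact (locSES π x)).2
      (LocalizedModule.map_exact x.primeCompl _ _ (LinearMap.exact_subtype_ker_map π))
    mono_f := (ModuleCat.mono_iff_injective _).2 (LocalizedModule.map_injective _ _ (LinearMap.ker π).injective_subtype)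
    epi_g := (ModuleCat.epi_iff_surjective _).2 (LocalizedModule.map_surjective _ _ hπ) }

instance : Module.Finite (Localization.AtPrime x) (locSES π x).X₁ :=
  inferInstanceAs (Module.Finite (Localization.AtPrime x) (LocalizedModule x.primeCompl (LinearMap.ker π)))

instance : Module.Finite (Localization.AtPrime x) (locSES π x).X₂ :=
  inferInstanceAs (Module.Finite (Localization.AtPrime x) (LocalizedModule x.primeCompl P))

instance : Module.Finite (Localization.AtPrime x) (locSES π x).X₃ :=
  inferInstanceAs (Module.Finite (Localization.AtPrime x) (LocalizedModule x.primeCompl K))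

instance : Module.Free (Localization.AtPrime x) (locSES π x).X₂ := by
  have : Module.Free (Localization.AtPrime x) (LocalizedModule x.primeCompl P) := Module.free_of_flat_of_isLocalRing
  exact this

/-- A local extension of a functional gives an extension up to an element outside the prime. -/
theorem exists_extend_of_local (φ : LinearMap.ker π →ₗ[S] S)
    (h : ∃ Ψ : LocalizedModule x.primeCompl P →ₗ[Localization.AtPrime x] Localization.AtPrime x,
      Ψ ∘ₗ LocalizedModule.map x.primeCompl (LinearMap.ker π).subtype = locDual x φ) :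
    ∃ u ∉ x, ∃ ψ : P →ₗ[S] S, u • φ = ψ ∘ₗ (LinearMap.ker π).subtype := by
  obtain ⟨Ψ, hΨ⟩ := h
  obtain ⟨ψ, s, hs⟩ := exists_map_eq_smul x (M := P) Ψ
  obtain ⟨u, hu, hφ⟩ := exists_notMem_kill (p := x) ((s : S) • φ - ψ ∘ₗ (LinearMap.ker π).subtype) fun m => by
    have h1 := LinearMap.congr_fun hΨ (LocalizedModule.mkLinearMap x.primeCompl _ m)
    have hloc : LocalizedModule.map x.primeCompl (LinearMap.ker π).subtype
        (LocalizedModule.mkLinearMap x.primeCompl (LinearMap.ker π) m) =
          LocalizedModule.mkLinearMap x.primeCompl P m.1 := by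
      simp [LocalizedModule.map_mk]
    rw [LinearMap.comp_apply, hloc, locDual_mk] at h1
    rw [LinearMap.sub_apply, map_sub, sub_eq_zero, LinearMap.comp_apply, Submodule.subtype_apply, hs, h1,
      LinearMap.smul_apply, smul_eq_mul, map_mul, Algebra.smul_def]
  refine ⟨u * s, fun h => (‹x.IsPrime›.mem_or_mem h).elim hu s.2, u • ψ, ?_⟩
  rw [smul_sub, sub_eq_zero, smul_smul] at hφ
  rw [hφ, LinearMap.smul_comp]

include hπ in
theorem exists_extend_of_pred {e : ℕ} (hd : ringKrullDim (Localization.AtPrime x) = (e + 1 : ℕ))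
    (h : Subsingleton (LocCoh.H (maximalIdeal (Localization.AtPrime x)) e (LocalizedModule x.primeCompl K)))
    (φ : LinearMap.ker π →ₗ[S] S) : ∃ u ∉ x, ∃ ψ : P →ₗ[S] S, u • φ = ψ ∘ₗ (LinearMap.ker π).subtype :=
  exists_extend_of_local π x φ ((WeakDuality.subsingleton_pred_iff (locSES_shortExact π hπ x) hd).1 h (locDual x φ))

variable (M : FMod S)

instance : Module.Finite S M.X := M.fin

/-- Where `H^{ht x - k}` vanishes, cocycles of the dual resolution are locally coboundaries. -/
theorem exists_kill_cocycle {j k : ℕ} (hx : x.height = ((j + k : ℕ) : ℕ∞))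
    (h : Subsingleton (LocCoh.H (maximalIdeal (Localization.AtPrime x)) j (LocalizedModule x.primeCompl M.X)))
    (φ : (res M k).X →ₗ[S] S) (hφ : φ ∘ₗ resd M k = 0) :
    ∃ u ∉ x, (k = 0 ∧ u • φ = 0) ∨ ∃ (l : ℕ) (hl : l + 1 = k) (θ : (res M l).X →ₗ[S] S),
      hl ▸ (θ ∘ₗ resd M l) = u • φ := by
  have hd : ringKrullDim (Localization.AtPrime x) = (j + k : ℕ) := by
    rw [IsLocalization.AtPrime.ringKrullDim_eq_height x, hx]; rfl
  obtain ⟨ψ, hψ⟩ := exists_factor_of_le_ker (resπ M k) (resπ_surjective M k) φ fun y hy => by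
    obtain ⟨z, rfl⟩ := (exact_resι_resπ M k y).1 hy
    obtain ⟨w, rfl⟩ := resπ_surjective M (k + 1) z
    exact LinearMap.congr_fun hφ w
  have hshift : ∀ m, m < k → Subsingleton (LocCoh.H (maximalIdeal (Localization.AtPrime x)) (j + m)
      (LocalizedModule x.primeCompl (syz M m).X)) := by
    intro m
    induction m with
    | zero => exact fun _ => h
    | succ m ih =>
      intro hm
      exact (WeakDuality.subsingleton_succ_iff (locSES_shortExact (resπ M m) (resπ_surjective M m) x) hd
        (show (j + m) + 1 < j + k by omega)).1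
        (ih (by omega))
  match k with
  | 0 =>
    have h0 : ringKrullDim (Localization.AtPrime x) = (j : ℕ) := hd
    rw [WeakDuality.subsingleton_top_iff h0, subsingleton_dual_iff] at h
    obtain ⟨u, hu, hψ0⟩ := h ψ
    refine ⟨u, hu, Or.inl ⟨rfl, LinearMap.ext fun y => ?_⟩⟩
    rw [LinearMap.smul_apply, ← hψ]
    exact LinearMap.congr_fun hψ0 (resπ M 0 y)
  | l + 1 =>
    obtain ⟨u, hu, θ, hθ⟩ := exists_extend_of_pred (resπ M l) (resπ_surjective M l) x
      (e := j + l) hd (hshift l (Nat.lt_succ_self l)) ψ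
    refine ⟨u, hu, Or.inr ⟨l, rfl, θ, LinearMap.ext fun y => ?_⟩⟩
    show θ (resι M l (resπ M (l + 1) y)) = u • φ y
    rw [← hψ]
    exact (LinearMap.congr_fun hθ (resπ M (l + 1) y)).symm

end Kill

end Groth.Agent.SGA2Fin
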