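import Mathlib
import Groth.Agent.SGA2Fin.Basic
import Groth.Agent.LocH.FiniteH

/-!
Finiteness of the cohomology of `Hom(N, Γ_I J)` for a finite module `N`.
-/

set_option autoImplicit false

namespace Groth.Agent.SGA2Fin

universe u

open CategoryTheory CategoryTheory.Limits LocH
open scoped Pointwise

variable {R : Type u} [CommRing R]

section Cover

variable {A B : Type u} [AddCommGroup A] [Module R A] [AddCommGroup B] [Module R B] [IsNoetherianRing R]

theorem exists_fg_cover (f : A →ₗ[R] B) (Z : Submodule R A) (W S : Submodule R B) (hS : S.FG) (hf : Z.map f ≤ S ⊔ W) :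
    ∃ T : Submodule R A, T ≤ Z ∧ T.FG ∧ ∀ z ∈ Z, ∃ t ∈ T, f (z - t) ∈ W := by
  classical
  have hle : Z.map (W.mkQ ∘ₗ f) ≤ S.map W.mkQ := by
    rintro _ ⟨z, hz, rfl⟩
    obtain ⟨s, hs, w, hw, e⟩ := Submodule.mem_sup.1 (hf ⟨z, hz, rfl⟩)
    refine Submodule.mem_map.2 ⟨s, hs, ?_⟩
    rw [LinearMap.comp_apply, ← e, map_add, Submodule.mkQ_apply W w, (Submodule.Quotient.mk_eq_zero W).2 hw, add_zero]
  obtain ⟨G, hG⟩ := (hS.map W.mkQ).of_le hle
  choose g hg hge using fun x : G => (show (x : B ⧸ W) ∈ Z.map (W.mkQ ∘ₗ f) from hG ▸ Submodule.subset_span x.2)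
  refine ⟨Submodule.span R (Set.range g), Submodule.span_le.2 (Set.range_subset_iff.2 hg),
    Submodule.fg_span (Set.finite_range g), fun z hz => ?_⟩
  have hz' : (W.mkQ ∘ₗ f) z ∈ (Submodule.span R (Set.range g)).map (W.mkQ ∘ₗ f) := by
    rw [Submodule.map_span, ← Set.range_comp]
    have : (W.mkQ ∘ₗ f) z ∈ Submodule.span R (G : Set (B ⧸ W)) := hG.symm ▸ Submodule.mem_map_of_mem hz
    refine Submodule.span_mono (show (G : Set (B ⧸ W)) ⊆ Set.range ((W.mkQ ∘ₗ f) ∘ g) from fun x hx => ⟨⟨x, hx⟩, hge ⟨x, hx⟩⟩) this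
  obtain ⟨t, ht, hte⟩ := hz'
  refine ⟨t, ht, ?_⟩
  rw [map_sub, ← Submodule.Quotient.mk_eq_zero, Submodule.Quotient.mk_sub, sub_eq_zero]
  exact hte.symm

theorem FG.of_le {S T : Submodule R A} (hT : T.FG) (h : S ≤ T) : S.FG := hT.of_le h

end Cover

variable {M : ModuleCat.{u} R} (J : InjectiveResolution M) (I : Ideal R)
variable (N : Type u) [AddCommGroup N] [Module R N]

/-- Torsion valued maps. -/
noncomputable def gt (p : ℕ) : Submodule R (N →ₗ[R] J.cocomplex.X p) where
  carrier := {ψ | ∀ n, ψ n ∈ DRing.torsionSub I (J.cocomplex.X p)}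
  add_mem' hx hy n := Submodule.add_mem _ (hx n) (hy n)
  zero_mem' _ := Submodule.zero_mem _
  smul_mem' c _ hx n := Submodule.smul_mem _ c (hx n)

/-- Post-composition with the differential. -/
noncomputable def dpost (p q : ℕ) : (N →ₗ[R] J.cocomplex.X p) →ₗ[R] (N →ₗ[R] J.cocomplex.X q) :=
  LinearMap.llcomp R N _ _ (J.cocomplex.d p q).hom

/-- Cycles of `Hom(N, Γ_I J)`. -/
noncomputable def gz (p : ℕ) : Submodule R (N →ₗ[R] J.cocomplex.X p) :=
  gt J I N p ⊓ LinearMap.ker (dpost J N p (p + 1))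

/-- Boundaries of `Hom(N, Γ_I J)`. -/
noncomputable def gb : (p : ℕ) → Submodule R (N →ₗ[R] J.cocomplex.X p)
  | 0 => ⊥
  | p + 1 => (gt J I N p).map (dpost J N p (p + 1))

variable {J I N}

theorem mem_gz {p : ℕ} {ψ : N →ₗ[R] J.cocomplex.X p} :
    ψ ∈ gz J I N p ↔ (∀ n, ψ n ∈ DRing.torsionSub I (J.cocomplex.X p)) ∧ ∀ n, J.cocomplex.d p (p + 1) (ψ n) = 0 :=
  ⟨fun h => ⟨h.1, fun n => LinearMap.congr_fun (LinearMap.mem_ker.1 h.2) n⟩,
    fun h => ⟨h.1, LinearMap.mem_ker.2 (LinearMap.ext h.2)⟩⟩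

theorem dpost_apply {p q : ℕ} (η : N →ₗ[R] J.cocomplex.X p) (n : N) : dpost J N p q η n = J.cocomplex.d p q (η n) := rfl

theorem dpost_mem_gz {p : ℕ} {η : N →ₗ[R] J.cocomplex.X p} (h : ∀ n, η n ∈ DRing.torsionSub I (J.cocomplex.X p)) :
    dpost J N p (p + 1) η ∈ gz J I N (p + 1) :=
  mem_gz.2 ⟨fun n => DRing.map_mem_torsionSub I (J.cocomplex.d p (p + 1)).hom (h n),
    fun n => congrArg (fun φ => φ.hom (η n)) (J.cocomplex.d_comp_d p (p + 1) (p + 1 + 1))⟩

theorem gb_le_gz : ∀ p, gb J I N p ≤ gz J I N p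
  | 0 => bot_le
  | p + 1 => by
    rintro _ ⟨η, hη, rfl⟩
    exact dpost_mem_gz hη

variable (J I N)

/-- `H^p Hom(N, Γ_I J)` is finite. -/
def GFin (p : ℕ) : Prop :=
  ∃ S : Submodule R (N →ₗ[R] J.cocomplex.X p), S.FG ∧ S ≤ gz J I N p ∧ gz J I N p ≤ S ⊔ gb J I N p

variable {J I N} [IsNoetherianRing R]

theorem gFin_of_exact {N₀ N' : Type u} [AddCommGroup N₀] [Module R N₀] [AddCommGroup N'] [Module R N']
    (f : N₀ →ₗ[R] N) (hf : Function.Injective f) (g : N →ₗ[R] N') (hg : Function.Surjective g)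
    (hfg : Function.Exact f g) {p : ℕ} (h₀ : GFin J I N₀ p) (h' : GFin J I N' p) : GFin J I N p := by
  obtain ⟨S₀, hS₀, -, hle₀⟩ := h₀
  obtain ⟨S', hS', hS'z, hle'⟩ := h'
  let r := LinearMap.lcomp R (J.cocomplex.X p) f
  have hr : (gz J I N p).map r ≤ S₀ ⊔ gb J I N₀ p := by
    rintro _ ⟨ψ, hψ, rfl⟩
    exact hle₀ (mem_gz.2 ⟨fun n => (mem_gz.1 hψ).1 _, fun n => (mem_gz.1 hψ).2 _⟩)
  obtain ⟨T, hTz, hT, hcov⟩ := exists_fg_cover r (gz J I N p) (gb J I N₀ p) S₀ hS₀ hr
  let c := LinearMap.lcomp R (J.cocomplex.X p) g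
  refine ⟨T ⊔ S'.map c, hT.sup (hS'.map c), sup_le hTz ?_, fun ψ hψ => ?_⟩
  · rintro _ ⟨s, hs, rfl⟩
    exact mem_gz.2 ⟨fun n => (mem_gz.1 (hS'z hs)).1 _, fun n => (mem_gz.1 (hS'z hs)).2 _⟩
  obtain ⟨t, ht, hres⟩ := hcov ψ hψ
  obtain ⟨w, hw, hw0⟩ : ∃ w ∈ gb J I N p, ∀ x, w (f x) = (ψ - t) (f x) := by
    cases p with
    | zero => exact ⟨0, Submodule.zero_mem _, fun x => (LinearMap.congr_fun ((Submodule.mem_bot R).1 hres) x).symm⟩
    | succ q =>
      obtain ⟨η₀, hη₀, e⟩ := hres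
      have := injective_torsionSub J I q
      obtain ⟨η, hη⟩ := Module.Injective.out (R := R) f hf (η₀.codRestrict (DRing.torsionSub I (J.cocomplex.X q)) hη₀)
      refine ⟨dpost J N q (q + 1) ((Submodule.subtype _) ∘ₗ η), ⟨_, fun n => (η n).2, rfl⟩, fun x => ?_⟩
      rw [dpost_apply, LinearMap.comp_apply, Submodule.subtype_apply, show η (f x) = _ from hη x]
      exact LinearMap.congr_fun e x
  obtain ⟨φ, hφ⟩ := exists_factor_of_le_ker g hg (ψ - t - w) fun x hx => by
    obtain ⟨y, rfl⟩ := (hfg x).1 hx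
    rw [LinearMap.mem_ker, LinearMap.sub_apply, hw0, sub_self]
  have hφz : φ ∈ gz J I N' p := by
    have h1 : ψ - t - w ∈ gz J I N p := Submodule.sub_mem _ (Submodule.sub_mem _ hψ (hTz ht)) (gb_le_gz p hw)
    refine mem_gz.2 ⟨fun n => ?_, fun n => ?_⟩ <;> obtain ⟨m, rfl⟩ := hg n <;> rw [hφ]
    exacts [(mem_gz.1 h1).1 m, (mem_gz.1 h1).2 m]
  obtain ⟨s, hs, b, hb, e⟩ := Submodule.mem_sup.1 (hle' hφz)
  have hb' : c b ∈ gb J I N p := by
    cases p with
    | zero => rw [(Submodule.mem_bot R).1 hb, map_zero]; exact Submodule.zero_mem _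
    | succ q =>
      obtain ⟨η, hη, rfl⟩ := hb
      exact ⟨η ∘ₗ g, fun n => hη _, rfl⟩
  refine Submodule.mem_sup.2 ⟨t + c s, Submodule.add_mem_sup ht (Submodule.mem_map_of_mem hs), w + c b,
    Submodule.add_mem _ hw hb', LinearMap.ext fun x => ?_⟩
  have h2 := hφ x
  rw [← e, LinearMap.sub_apply, LinearMap.sub_apply] at h2
  simp only [LinearMap.add_apply]
  show t x + s (g x) + (w x + b (g x)) = ψ x
  rw [LinearMap.add_apply] at h2
  calc t x + s (g x) + (w x + b (g x)) = t x + w x + (s (g x) + b (g x)) := by abel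
    _ = ψ x := by rw [h2]; abel

theorem exists_d_eq {p : ℕ} {y : J.cocomplex.X (p + 1)} (hy : J.cocomplex.d (p + 1) (p + 2) y = 0) :
    ∃ z, J.cocomplex.d p (p + 1) z = y :=
  ShortComplex.moduleCat_exact_iff _ |>.1 (J.exact_succ p) y hy

omit [IsNoetherianRing R] in
theorem mem_torsionSub_bot {X : Type u} [AddCommGroup X] [Module R X] (x : X) : x ∈ DRing.torsionSub (⊥ : Ideal R) X :=
  ⟨1, fun a ha => by
    rw [pow_one, Submodule.mem_bot] at ha
    rw [ha, zero_smul]⟩

theorem gFin_bot [Module.Finite R M] : ∀ (p : ℕ) (N : Type u) [AddCommGroup N] [Module R N] [Module.Finite R N],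
    GFin J ⊥ N p := by
  intro p
  induction p with
  | zero =>
    intro N _ _ _
    refine ⟨gz J ⊥ N 0, ?_, le_rfl, le_sup_left⟩
    have : Module.Finite R ↑((localCohomology (⊥ : Ideal R) 0).obj M) := by
      have : Module.Finite R ↑((DRing.gammaI (⊥ : Ideal R)).obj M) :=
        Module.Finite.iff_fg.2 (IsNoetherian.noetherian (DRing.torsionSub (⊥ : Ideal R) M))
      exact Module.Finite.equiv ((zeroIso (⊥ : Ideal R)).app M).toLinearEquiv.symm
    choose G hG using fun ψ : gz J ⊥ N 0 => exists_cycleLift J (⊥ : Ideal R) 0 ψ.1 (fun _ => mem_torsionSub_bot _) (mem_gz.1 ψ.2).2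
    let Φ : gz J ⊥ N 0 →ₗ[R] (N →ₗ[R] ↑((localCohomology (⊥ : Ideal R) 0).obj M)) :=
      { toFun := fun ψ => cyclesToH J 0 ∘ₗ G ψ
        map_add' := fun ψ χ => LinearMap.ext fun n => by
          rw [LinearMap.add_apply, LinearMap.comp_apply, LinearMap.comp_apply, LinearMap.comp_apply, ← map_add]
          refine congrArg _ (cycleVal_injective J 0 ?_)
          rw [hG, show cycleVal J 0 (G ψ n + G χ n) = cycleVal J 0 (G ψ n) + cycleVal J 0 (G χ n) from
            (congrArg _ (map_add _ _ _)).trans (map_add _ _ _), hG, hG]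
          rfl
        map_smul' := fun c ψ => LinearMap.ext fun n => by
          rw [RingHom.id_apply, LinearMap.smul_apply, LinearMap.comp_apply, LinearMap.comp_apply, ← map_smul]
          refine congrArg _ (cycleVal_injective J 0 ?_)
          rw [hG, cycleVal_smul, hG]
          rfl }
    have hΦ : Function.Injective Φ := (injective_iff_map_eq_zero _).2 fun ψ hψ => Subtype.ext (LinearMap.ext fun n => by
      have h1 : cyclesToH J 0 (G ψ n) = 0 := LinearMap.congr_fun hψ n
      rw [cyclesToH_eq_zero_iff_mem, hG] at h1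
      exact (Submodule.mem_bot R).1 h1)
    exact Module.Finite.iff_fg.1 (Module.Finite.of_injective Φ hΦ)
  | succ p ih =>
    intro N _ _ _
    obtain ⟨n, π, hπ⟩ := Module.Finite.exists_fin' R N
    let K := LinearMap.ker π
    obtain ⟨S, hS, -, hle⟩ := ih K
    let A : Submodule R ((Fin n → R) →ₗ[R] J.cocomplex.X p) := S.comap (LinearMap.lcomp R _ K.subtype) ⊓
      (LinearMap.ker (LinearMap.lcomp R _ K.subtype ∘ₗ dpost J (Fin n → R) p (p + 1)))
    obtain ⟨T, hTA, hT, hcov⟩ := exists_fg_cover (LinearMap.lcomp R (J.cocomplex.X p) K.subtype) A ⊥ S hS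
      (by rintro _ ⟨η, hη, rfl⟩; exact Submodule.mem_sup_left hη.1)
    let c := LinearMap.lcomp R (J.cocomplex.X (p + 1)) π
    have hc : Function.Injective c := fun φ φ' h => LinearMap.ext fun m => by
      obtain ⟨v, rfl⟩ := hπ m; exact LinearMap.congr_fun h v
    refine ⟨(T.map (dpost J (Fin n → R) p (p + 1))).comap c, ?_, fun φ hφ => ?_, fun ψ hψ => ?_⟩
    · have := Module.Finite.iff_fg.2 (hT.map (dpost J (Fin n → R) p (p + 1)))
      refine Module.Finite.iff_fg.1 (Module.Finite.of_injective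
        (c.restrict (p := (T.map (dpost J (Fin n → R) p (p + 1))).comap c) (q := T.map (dpost J (Fin n → R) p (p + 1))) fun x hx => hx)
        fun a b h => Subtype.ext (hc (congrArg Subtype.val h)))
    · obtain ⟨t, -, ht⟩ := hφ
      refine mem_gz.2 ⟨fun _ => mem_torsionSub_bot _, fun m => ?_⟩
      obtain ⟨v, rfl⟩ := hπ m
      rw [show φ (π v) = dpost J (Fin n → R) p (p + 1) t v from (LinearMap.congr_fun ht v).symm]
      exact congrArg (fun f => f.hom (t v)) (J.cocomplex.d_comp_d p (p + 1) (p + 1 + 1))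
    have hex : ∀ j : Fin n, ∃ z, J.cocomplex.d p (p + 1) z = ψ (π (Pi.single j 1)) := fun j =>
      exists_d_eq ((mem_gz.1 hψ).2 _)
    choose z hz using hex
    let η : (Fin n → R) →ₗ[R] J.cocomplex.X p := Fintype.linearCombination R z
    have hη : ∀ v, J.cocomplex.d p (p + 1) (η v) = ψ (π v) := by
      have : (J.cocomplex.d p (p + 1)).hom ∘ₗ η = ψ ∘ₗ π := (Pi.basisFun R (Fin n)).ext fun j => by
        rw [Pi.basisFun_apply, LinearMap.comp_apply, LinearMap.comp_apply, Fintype.linearCombination_apply_single, one_smul]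
        exact hz j
      exact LinearMap.congr_fun this
    have hK : η ∘ₗ K.subtype ∈ gz J ⊥ K p := mem_gz.2 ⟨fun _ => mem_torsionSub_bot _, fun k => by
      rw [LinearMap.comp_apply, hη, show π (K.subtype k) = 0 from k.2, map_zero]⟩
    obtain ⟨s, hs, b, hb, e⟩ := Submodule.mem_sup.1 (hle hK)
    obtain ⟨η', hη', hη'K⟩ : ∃ η' : (Fin n → R) →ₗ[R] J.cocomplex.X p,
        (∀ v, J.cocomplex.d p (p + 1) (η' v) = ψ (π v)) ∧ η' ∘ₗ K.subtype = s := by
      cases p with
      | zero =>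
        refine ⟨η, hη, ?_⟩
        rw [← e, (Submodule.mem_bot R).1 hb, add_zero]
      | succ l =>
        obtain ⟨ξ, -, rfl⟩ := hb
        have := Module.injective_module_of_injective_object R _ (inj := J.injective l)
        obtain ⟨ξ', hξ'⟩ := Module.Injective.out (R := R) K.subtype K.injective_subtype ξ
        refine ⟨η - dpost J (Fin n → R) l (l + 1) ξ', fun v => ?_, LinearMap.ext fun k => ?_⟩
        · rw [LinearMap.sub_apply, map_sub, hη, dpost_apply]
          have := congrArg (fun f => f.hom (ξ' v)) (J.cocomplex.d_comp_d l (l + 1) (l + 1 + 1))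
          change J.cocomplex.d (l + 1) (l + 1 + 1) (J.cocomplex.d l (l + 1) (ξ' v)) = 0 at this
          rw [this, sub_zero]
        · have h1 : η (K.subtype k) = s k + J.cocomplex.d l (l + 1) (ξ k) := (LinearMap.congr_fun e k).symm
          rw [LinearMap.comp_apply, LinearMap.sub_apply, dpost_apply, h1, show ξ' (K.subtype k) = ξ k from hξ' k,
            add_sub_cancel_right]
    have hA : η' ∈ A := ⟨by
      show η' ∘ₗ K.subtype ∈ S
      rw [hη'K]; exact hs, LinearMap.mem_ker.2 (LinearMap.ext fun k => by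
      show J.cocomplex.d p (p + 1) (η' k.1) = 0
      rw [hη', show π k.1 = 0 from k.2, map_zero])⟩
    obtain ⟨t, ht, ht0⟩ := hcov η' hA
    rw [Submodule.mem_bot] at ht0
    obtain ⟨γ, hγ⟩ := exists_factor_of_le_ker π hπ (η' - t) fun v hv => LinearMap.congr_fun ht0 ⟨v, hv⟩
    refine Submodule.mem_sup.2 ⟨ψ - dpost J N p (p + 1) γ, ?_, dpost J N p (p + 1) γ, ⟨γ, fun _ => mem_torsionSub_bot _, rfl⟩,
      sub_add_cancel _ _⟩
    refine ⟨t, ht, LinearMap.ext fun v => ?_⟩
    show J.cocomplex.d p (p + 1) (t v) = ψ (π v) - J.cocomplex.d p (p + 1) (γ (π v))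
    rw [hγ, LinearMap.sub_apply, map_sub, hη', sub_sub_cancel]

theorem gFin_of_killed [Module.Finite R M] [Module.Finite R N] {e : ℕ} (he : ∀ a ∈ I ^ e, ∀ n : N, a • n = 0) (p : ℕ) :
    GFin J I N p := by
  have ht : ∀ (q : ℕ) (ψ : N →ₗ[R] J.cocomplex.X q), ∀ n, ψ n ∈ DRing.torsionSub I (J.cocomplex.X q) :=
    fun q ψ n => ⟨e, fun a ha => by rw [← map_smul, he a ha, map_zero]⟩
  have hz : gz J I N p = gz J ⊥ N p := by
    ext ψ
    exact ⟨fun h => mem_gz.2 ⟨fun _ => mem_torsionSub_bot _, (mem_gz.1 h).2⟩, fun h => mem_gz.2 ⟨ht p ψ, (mem_gz.1 h).2⟩⟩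
  have hb : gb J ⊥ N p ≤ gb J I N p := by
    cases p with
    | zero => exact le_rfl
    | succ q => exact Submodule.map_mono fun η _ => ht q η
  obtain ⟨S, hS, hSz, hle⟩ := gFin_bot (J := J) p N
  exact ⟨S, hS, hz ▸ hSz, hz ▸ hle.trans (sup_le_sup_left hb _)⟩

omit [IsNoetherianRing R] in
theorem gFin_of_locally {p : ℕ}
    (h : ∀ ψ ∈ gz J I N p, ∀ (q : Ideal R) [q.IsPrime], ∃ u ∉ q, u • ψ ∈ gb J I N p) : GFin J I N p := by
  refine ⟨⊥, Submodule.fg_bot, bot_le, fun ψ hψ => Submodule.mem_sup_right ?_⟩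
  let 𝔞 : Ideal R := (gb J I N p).comap (LinearMap.toSpanSingleton R _ ψ)
  by_contra hne
  have h𝔞 : 𝔞 ≠ ⊤ := fun htop => hne (by
    have : (1 : R) ∈ 𝔞 := htop ▸ Submodule.mem_top
    simpa [𝔞] using this)
  obtain ⟨m, hm, hle⟩ := Ideal.exists_le_maximal 𝔞 h𝔞
  obtain ⟨u, hu, hub⟩ := h ψ hψ m
  exact hu (hle hub)

/-- Near primes where `I + ann N` has height `> p`, cycles are boundaries. -/
theorem exists_kill_high {S : Type u} [CommRing S] [IsRegularRing S] (J : InjectiveResolution (ModuleCat.of S S))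
    {I : Ideal S} {N : Type u} [AddCommGroup N] [Module S N] [Module.Finite S N] {q : Ideal S} [q.IsPrime] {p : ℕ}
    (hp : ∀ x : Ideal S, x.IsPrime → x ≤ q → I ≤ x → Module.annihilator S N ≤ x → (p : ℕ∞) < x.height)
    {ψ : N →ₗ[S] J.cocomplex.X p} (hψ : ψ ∈ gz J I N p) : ∃ u ∉ q, u • ψ ∈ gb J I N p := by
  classical
  let K := I ⊔ Module.annihilator S N
  let A := Localization.AtPrime q
  have hK : ((p + 1 : ℕ) : ℕ∞) ≤ LocCoh.idealDepth (K.map (algebraMap S A)) (LocalizedModule q.primeCompl S) := by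
    have := SerreReg.isRegularRing_of_isRegularLocalRing A
    let e : LocalizedModule q.primeCompl S ≃ₗ[A] A :=
      (IsLocalizedModule.linearEquiv q.primeCompl (LocalizedModule.mkLinearMap q.primeCompl S)
        (Algebra.linearMap S A)).extendScalarsOfIsLocalization q.primeCompl A
    rw [idealDepth_congr e]
    refine le_trans ?_ (height_le_idealDepth_self (K.map (algebraMap S A)))
    rw [Ideal.height_eq_inf_minimalPrimes]
    refine le_iInf₂ fun P hP => ?_
    have := hP.1.1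
    rw [← IsLocalization.height_under q.primeCompl P, Nat.cast_add, Nat.cast_one,
      ENat.add_one_le_iff (ENat.natCast_ne_top p)]
    have hKP : K ≤ P.comap (algebraMap S A) := Ideal.map_le_iff_le_comap.1 hP.1.2
    refine hp (P.comap (algebraMap S A)) (Ideal.comap_isPrime _ P) (fun a ha => ?_) (le_sup_left.trans hKP) (le_sup_right.trans hKP)
    by_contra hne
    exact hP.1.1.ne_top (Ideal.eq_top_of_isUnit_mem _ ha (IsLocalization.map_units A (⟨a, hne⟩ : q.primeCompl)))
  rw [le_idealDepth_iff] at hK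
  have hkills : ∀ j, j ≤ p → KillsHom J K (q.primeCompl : Set S) j := fun j hj =>
    killsHom_submonoid J q.primeCompl fun x hx hd => by
      obtain ⟨u, hu⟩ := exists_smul_mem_boundary q.primeCompl J
        ((subsingleton_localized_iff q.primeCompl S J (K.map (algebraMap S A)) j).1 (hK j (by omega)) _
          (floc_mem q.primeCompl J hx)
          ((dloc_floc q.primeCompl J j (j + 1) x).trans ((congrArg _ hd).trans (map_zero _))))
      exact ⟨u, hu⟩
  have hval : ∀ n, ψ n ∈ DRing.torsionSub K (J.cocomplex.X p) := fun n => by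
    refine torsionSub_sup ((mem_gz.1 hψ).1 n) ⟨1, fun a ha => ?_⟩
    rw [pow_one] at ha
    rw [← map_smul, Module.mem_annihilator.1 ha, map_zero]
  obtain ⟨u, hu, hub⟩ := hkills p le_rfl N ψ hval (mem_gz.1 hψ).2
  cases p with
  | zero => exact ⟨u, hu, (Submodule.mem_bot S).2 (LinearMap.ext fun n => (Submodule.mem_bot S).1 (hub n))⟩
  | succ k =>
    obtain ⟨v, hv, g, hg, hdg⟩ := exists_lift_of_killsHom J (I := K) (U := (q.primeCompl : Set S)) k
      (fun j hj => hkills j (by omega)) N (u • ψ) hub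
    have hv' : v ∉ q := by
      have h1 : ∀ (m : ℕ), (q.primeCompl : Set S) ^ (m + 1) ⊆ (q.primeCompl : Set S) := by
        intro m
        induction m with
        | zero => rw [pow_one]
        | succ m ih =>
          rw [pow_succ]
          rintro _ ⟨a, ha, b, hb, rfl⟩
          exact q.primeCompl.mul_mem (ih ha) hb
      exact h1 k hv
    refine ⟨v * u, fun h => (‹q.IsPrime›.mem_or_mem h).elim hv' hu, g, fun n => torsionSub_anti le_sup_left _ (hg n),
      LinearMap.ext fun n => ?_⟩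
    rw [dpost_apply, hdg, mul_smul]
    rfl

/-- Torsion cycles are injective beyond the injective dimension. -/
theorem injective_torsion_cycles {A : Type u} [CommRing A] [IsNoetherianRing A] {L : ModuleCat.{u} A}
    (J : InjectiveResolution L) (I : Ideal A) {d n : ℕ} [HasInjectiveDimensionLT L (d + 1)] (hn : d ≤ n) :
    Module.Injective A ↥(DRing.torsionSub I (J.cocomplex.X n) ⊓ LinearMap.ker (J.cocomplex.d n (n + 1)).hom) := by
  have hZ : Module.Injective A (LinearMap.ker (J.cocomplex.d n (n + 1)).hom) := by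
    refine Module.Baer.injective fun K g => ?_
    have := Module.injective_module_of_injective_object A _ (inj := J.injective n)
    obtain ⟨F, hF⟩ := Module.Injective.out (R := A) K.subtype K.injective_subtype
      ((LinearMap.ker (J.cocomplex.d n (n + 1)).hom).subtype ∘ₗ g)
    let φ : (A ⧸ K) →ₗ[A] J.cocomplex.X (n + 1) :=
      K.liftQ ((J.cocomplex.d n (n + 1)).hom ∘ₗ F) fun x hx => by
        rw [LinearMap.mem_ker, LinearMap.comp_apply, show F x = _ from hF ⟨x, hx⟩]
        exact (g ⟨x, hx⟩).2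
    have hφ : ModuleCat.ofHom φ ≫ J.cocomplex.d (n + 1) (n + 1 + 1) = 0 := by
      refine ModuleCat.hom_ext (Submodule.linearMap_qext _ (LinearMap.ext fun x => ?_))
      exact congrArg (fun ψ : J.cocomplex.X n ⟶ J.cocomplex.X (n + 1 + 1) => ψ.hom (F x))
        (J.cocomplex.d_comp_d n (n + 1) (n + 1 + 1))
    have h0 : J.extMk (ModuleCat.ofHom φ) (n + 1 + 1) rfl hφ = 0 :=
      Abelian.Ext.eq_zero_of_hasInjectiveDimensionLT _ (d + 1) (by omega)
    rw [InjectiveResolution.extMk_eq_zero_iff (p := n) (hp := rfl)] at h0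
    obtain ⟨ψ, hψ⟩ := h0
    let F' : A →ₗ[A] J.cocomplex.X n := F - ψ.hom ∘ₗ K.mkQ
    have hF' : ∀ x, F' x ∈ LinearMap.ker (J.cocomplex.d n (n + 1)).hom := fun x => by
      have h1 : (J.cocomplex.d n (n + 1)).hom (ψ.hom (K.mkQ x)) = (J.cocomplex.d n (n + 1)).hom (F x) :=
        congrArg (fun χ : ModuleCat.of A (A ⧸ K) ⟶ J.cocomplex.X (n + 1) => χ.hom (K.mkQ x)) hψ
      rw [LinearMap.mem_ker, LinearMap.sub_apply, map_sub, LinearMap.comp_apply, h1, sub_self]
    refine ⟨F'.codRestrict _ hF', fun x hx => Subtype.ext ?_⟩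
    show F' x = _
    rw [LinearMap.sub_apply, LinearMap.comp_apply, Submodule.mkQ_apply, (Submodule.Quotient.mk_eq_zero _).2 hx,
      map_zero, sub_zero]
    exact hF ⟨x, hx⟩
  have h := InjHull.injective_iSup_torsionBySet (R := A) ↥(LinearMap.ker (J.cocomplex.d n (n + 1)).hom) I
  exact WeakDuality.injective_of_retract
    (Q := ↥(⨆ k : ℕ, Submodule.torsionBySet A ↥(LinearMap.ker (J.cocomplex.d n (n + 1)).hom) ((I ^ k : Ideal A) : Set A)))
    { toFun := fun v => ⟨⟨v.1, v.2.2⟩, (InjHull.mem_iSup_torsionBySet_iff I _).2 (by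
        obtain ⟨k, hk⟩ := v.2.1
        exact ⟨k, fun a ha => Subtype.ext (hk a ha)⟩)⟩
      map_add' := fun _ _ => rfl
      map_smul' := fun _ _ => rfl }
    { toFun := fun v => ⟨v.1.1, (by
        obtain ⟨k, hk⟩ := (InjHull.mem_iSup_torsionBySet_iff I _).1 v.2
        exact ⟨k, fun a ha => congrArg Subtype.val (hk a ha)⟩), v.1.2⟩
      map_add' := fun _ _ => rfl
      map_smul' := fun _ _ => rfl } fun _ => rfl

/-- Near primes of height `< p`, cycles are boundaries. -/
theorem exists_kill_low {S : Type u} [CommRing S] [IsRegularRing S] (J : InjectiveResolution (ModuleCat.of S S))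
    {I : Ideal S} {N : Type u} [AddCommGroup N] [Module S N] [Module.Finite S N] {q : Ideal S} [q.IsPrime] {p : ℕ}
    (hq : q.height < (p : ℕ∞)) {ψ : N →ₗ[S] J.cocomplex.X p} (hψ : ψ ∈ gz J I N p) :
    ∃ u ∉ q, u • ψ ∈ gb J I N p := by
  classical
  let A := Localization.AtPrime q
  obtain ⟨d, hd⟩ := ENat.ne_top_iff_exists.1 (ne_top_of_lt hq)
  rw [← hd, Nat.cast_lt] at hq
  obtain ⟨k, rfl⟩ : ∃ k, p = k + 1 := ⟨p - 1, by omega⟩
  have hdim : ringKrullDim A = d := by
    rw [IsLocalization.AtPrime.ringKrullDim_eq_height q, ← hd]; rfl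
  let Jq := localizeRes q.primeCompl J
  let IA := I.map (algebraMap S A)
  let e : LocalizedModule q.primeCompl S ≃ₗ[A] A :=
    (IsLocalizedModule.linearEquiv q.primeCompl (LocalizedModule.mkLinearMap q.primeCompl S)
      (Algebra.linearMap S A)).extendScalarsOfIsLocalization q.primeCompl A
  have := WeakDuality.hasInjectiveDimensionLT_self hdim
  have : HasInjectiveDimensionLT ((locFunctor q.primeCompl).obj (ModuleCat.of S S)) (d + 1) :=
    hasInjectiveDimensionLT_of_iso ((localizedIso q.primeCompl S).trans e.toModuleIso).symm (d + 1)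
  have hvan : Vanish Jq IA (k + 1) := (subsingleton_localized_iff q.primeCompl S J IA (k + 1)).1
    (subsingleton_of_supportDim_lt IA (k + 1) _ ((Module.supportDim_le_ringKrullDim _ _).trans_lt (by
      rw [hdim]; exact_mod_cast hq)))
  let D : DRing.torsionSub IA (Jq.cocomplex.X k) →ₗ[A] boundary Jq IA (k + 1) :=
    ((Jq.cocomplex.d k (k + 1)).hom ∘ₗ Submodule.subtype _).codRestrict _ fun x => ⟨x.1, x.2, rfl⟩
  have hD : Function.Surjective D := fun ⟨y, hy⟩ => by
    obtain ⟨x, hx, rfl⟩ := hy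
    exact ⟨⟨x, hx⟩, rfl⟩
  have hZ := injective_torsion_cycles Jq IA (d := d) (n := k) (by omega)
  obtain ⟨r, hr⟩ := Module.Injective.out (R := A)
    (Submodule.inclusion (inf_le_left : DRing.torsionSub IA (Jq.cocomplex.X k) ⊓ LinearMap.ker (Jq.cocomplex.d k (k + 1)).hom ≤ _))
    (Submodule.inclusion_injective _) LinearMap.id
  obtain ⟨σ, hσ⟩ := exists_factor_of_le_ker D hD (LinearMap.id - Submodule.inclusion inf_le_left ∘ₗ r) fun x hx => by
    have hx' : (x : Jq.cocomplex.X k) ∈ LinearMap.ker (Jq.cocomplex.d k (k + 1)).hom :=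
      LinearMap.mem_ker.2 (congrArg Subtype.val (LinearMap.mem_ker.1 hx))
    have h1 : r x = ⟨x.1, x.2, hx'⟩ := hr ⟨x.1, x.2, hx'⟩
    rw [LinearMap.mem_ker, LinearMap.sub_apply, LinearMap.id_apply, LinearMap.comp_apply, h1, sub_eq_zero]
    rfl
  have hDσ : ∀ y, D (σ y) = y := fun y => by
    obtain ⟨x, rfl⟩ := hD y
    rw [hσ, LinearMap.sub_apply, map_sub, LinearMap.comp_apply]
    refine (sub_eq_self).2 (Subtype.ext ?_)
    exact LinearMap.mem_ker.1 (r x).2.2
  let F : N →ₗ[S] (J.cocomplex.X (k + 1)).localizedModule q.primeCompl := floc q.primeCompl J (k + 1) ∘ₗ ψ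
  have hF : ∀ n, F n ∈ boundary Jq IA (k + 1) := fun n =>
    hvan _ (floc_mem q.primeCompl J ((mem_gz.1 hψ).1 n))
      ((dloc_floc q.primeCompl J (k + 1) (k + 1 + 1) (ψ n)).trans ((congrArg _ ((mem_gz.1 hψ).2 n)).trans (map_zero _)))
  let η' : N →ₗ[S] (J.cocomplex.X k).localizedModule q.primeCompl :=
    { toFun := fun n => (σ ⟨F n, hF n⟩).1
      map_add' := fun a b => by
        have e : (⟨F (a + b), hF _⟩ : boundary Jq IA (k + 1)) = ⟨F a, hF a⟩ + ⟨F b, hF b⟩ := Subtype.ext (map_add F a b)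
        rw [e, map_add]
        rfl
      map_smul' := fun c a => by
        have e : (⟨F (c • a), hF _⟩ : boundary Jq IA (k + 1)) = algebraMap S A c • ⟨F a, hF a⟩ :=
          Subtype.ext ((map_smul F c a).trans (algebraMap_smul A c (F a)).symm)
        rw [e, map_smul]
        exact algebraMap_smul A c _ }
  have : Module.FinitePresentation S N := Module.finitePresentation_of_finite S N
  obtain ⟨η, s, hη⟩ := Module.FinitePresentation.exists_lift_of_isLocalizedModule q.primeCompl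
    (floc q.primeCompl J k) η'
  obtain ⟨G, hG⟩ := (Module.Finite.fg_top : (⊤ : Submodule S N).FG)
  have ht : ∀ g : N, ∃ t ∈ q.primeCompl, t • η g ∈ DRing.torsionSub I (J.cocomplex.X k) := fun g => by
    have h1 : floc q.primeCompl J k (η g) = (s : S) • η' g := LinearMap.congr_fun hη g
    have h2 : (s : S) • η' g ∈ DRing.torsionSub IA ((J.cocomplex.X k).localizedModule q.primeCompl) := by
      rw [← algebraMap_smul A (s : S) (η' g)]
      exact Submodule.smul_mem _ _ (σ ⟨F g, hF g⟩).2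
    rw [← h1] at h2
    obtain ⟨x, hx, t, ht⟩ := exists_rep q.primeCompl J _ h2
    rw [← map_smul] at ht
    obtain ⟨c, hc⟩ := IsLocalizedModule.exists_of_eq (S := q.primeCompl) (f := floc q.primeCompl J k) ht
    refine ⟨c * t, q.primeCompl.mul_mem c.2 t.2, ?_⟩
    rw [mul_smul]
    exact (show (c : S) • (t : S) • η g = (c : S) • x from hc) ▸ Submodule.smul_mem _ _ hx
  choose t ht htmem using ht
  let T := ∏ g ∈ G, t g
  have hT : T ∈ q.primeCompl := Submonoid.prod_mem _ fun g _ => ht g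
  have hTη : ∀ n, T • η n ∈ DRing.torsionSub I (J.cocomplex.X k) := fun n => by
    have hn : n ∈ Submodule.span S (G : Set N) := hG ▸ Submodule.mem_top
    induction hn using Submodule.span_induction with
    | mem g hg =>
      obtain ⟨c, hc⟩ := Finset.dvd_prod_of_mem t hg
      rw [show T = t g * c from hc, mul_comm, mul_smul]
      exact Submodule.smul_mem _ _ (htmem g)
    | zero => rw [map_zero, smul_zero]; exact Submodule.zero_mem _
    | add a b _ _ ha hb => rw [map_add, smul_add]; exact Submodule.add_mem _ ha hb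
    | smul c a _ ha => rw [map_smul, smul_comm]; exact Submodule.smul_mem _ _ ha
  have hdiff : ∀ g : N, ∃ v : q.primeCompl,
      (v : S) • (J.cocomplex.d k (k + 1) (η g) - (s : S) • ψ g) = 0 := fun g =>
    (IsLocalizedModule.eq_zero_iff q.primeCompl (floc q.primeCompl J (k + 1))).1 (by
      rw [map_sub, ← dloc_floc, map_smul, show floc q.primeCompl J k (η g) = (s : S) • η' g from LinearMap.congr_fun hη g,
        LinearMap.map_smul_of_tower, sub_eq_zero]
      exact congrArg ((s : S) • ·) (congrArg Subtype.val (hDσ ⟨F g, hF g⟩)))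
  choose v hv using hdiff
  let V := ∏ g ∈ G, (v g : S)
  have hV : V ∈ q.primeCompl := Submonoid.prod_mem _ fun g _ => (v g).2
  have hVd : ∀ n, V • (J.cocomplex.d k (k + 1) (η n) - (s : S) • ψ n) = 0 := fun n => by
    have hn : n ∈ Submodule.span S (G : Set N) := hG ▸ Submodule.mem_top
    induction hn using Submodule.span_induction with
    | mem g hg =>
      obtain ⟨c, hc⟩ := Finset.dvd_prod_of_mem (fun g => (v g : S)) hg
      rw [show V = (v g : S) * c from hc, mul_comm, mul_smul, hv, smul_zero]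
    | zero => simp
    | add a b _ _ ha hb =>
      rw [map_add, map_add, map_add, smul_add (s : S), add_sub_add_comm, smul_add, ha, hb, add_zero]
    | smul c a _ ha => rw [map_smul, map_smul, map_smul, smul_comm (s : S), ← smul_sub, smul_comm, ha, smul_zero]
  refine ⟨V * T * s, q.primeCompl.mul_mem (q.primeCompl.mul_mem hV hT) s.2, (V * T) • η, fun n => ?_, LinearMap.ext fun n => ?_⟩
  · rw [LinearMap.smul_apply, mul_smul]
    exact Submodule.smul_mem _ _ (hTη n)
  · rw [dpost_apply, LinearMap.smul_apply, map_smul, LinearMap.smul_apply, mul_smul _ (s : S), mul_comm V, mul_smul, mul_smul]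
    congr 1
    rw [← sub_eq_zero, ← smul_sub, hVd]

/-- No prime of `V(I + ann N)` of height `p`: the cohomology in degree `p` is finite (zero). -/
theorem gFin_of_height_ne {S : Type u} [CommRing S] [IsRegularRing S] (J : InjectiveResolution (ModuleCat.of S S))
    {I : Ideal S} {N : Type u} [AddCommGroup N] [Module S N] [Module.Finite S N] {p : ℕ}
    (hp : ∀ y : Ideal S, y.IsPrime → I ≤ y → Module.annihilator S N ≤ y → y.height ≠ (p : ℕ∞)) :
    GFin J I N p := by
  classical
  refine gFin_of_locally fun ψ hψ q hq => ?_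
  by_cases hI : I ≤ q
  swap
  · obtain ⟨a, ha, haq⟩ := SetLike.not_le_iff_exists.1 hI
    obtain ⟨G, hG⟩ := (Module.Finite.fg_top : (⊤ : Submodule S N).FG)
    choose e he using fun n => (mem_gz.1 hψ).1 n
    refine ⟨a ^ G.sup e, fun h => haq (hq.mem_of_pow_mem _ h), ?_⟩
    convert Submodule.zero_mem (gb J I N p)
    refine LinearMap.ext fun n => ?_
    have hn : n ∈ Submodule.span S (G : Set N) := hG ▸ Submodule.mem_top
    rw [LinearMap.smul_apply, LinearMap.zero_apply]
    induction hn using Submodule.span_induction with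
    | mem g hg => exact he g _ (Ideal.pow_le_pow_right (Finset.le_sup hg) (Ideal.pow_mem_pow ha _))
    | zero => rw [map_zero, smul_zero]
    | add a b _ _ ha hb => rw [map_add, smul_add, ha, hb, add_zero]
    | smul c a _ ha => rw [map_smul, smul_comm, ha, smul_zero]
  by_cases hN : Module.annihilator S N ≤ q
  swap
  · obtain ⟨a, ha, haq⟩ := SetLike.not_le_iff_exists.1 hN
    refine ⟨a, haq, ?_⟩
    convert Submodule.zero_mem (gb J I N p)
    exact LinearMap.ext fun n => by rw [LinearMap.smul_apply, ← map_smul, Module.mem_annihilator.1 ha, map_zero]; rfl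
  by_cases hlow : q.height < (p : ℕ∞)
  · exact exists_kill_low J hlow hψ
  refine exists_kill_high J (fun x hx hxq hIx hNx => ?_) hψ
  by_contra hxp
  rw [not_lt] at hxp hlow
  -- climb from `x` to a prime of height exactly `p`
  obtain ⟨y, ⟨hy, hxy, hyq, hyp⟩, hmax⟩ := set_has_maximal_iff_noetherian.2 (inferInstance : IsNoetherian S S)
    {y : Ideal S | y.IsPrime ∧ x ≤ y ∧ y ≤ q ∧ y.height ≤ (p : ℕ∞)} ⟨x, hx, le_rfl, hxq, hxp⟩
  have hne := hp y hy (hIx.trans hxy) (hNx.trans hxy)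
  have hlt : y < q := by
    refine lt_of_le_of_ne hyq fun e => ?_
    subst e
    exact hne (le_antisymm hyp hlow)
  obtain ⟨z, ⟨hz, hyz, hzq⟩, hzmin⟩ : ∃ z ∈ {z : Ideal S | z.IsPrime ∧ y < z ∧ z ≤ q},
      ∀ z' ∈ {z : Ideal S | z.IsPrime ∧ y < z ∧ z ≤ q}, z.height ≤ z'.height := by
    let T := {z : Ideal S | z.IsPrime ∧ y < z ∧ z ≤ q}
    obtain ⟨z, hz, hmin⟩ := (InvImage.wf (fun z : Ideal S => z.height) wellFounded_lt).has_min T ⟨q, hq, hlt, le_rfl⟩
    exact ⟨z, hz, fun z' hz' => not_lt.1 (hmin z' hz')⟩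
  have hcov : (⟨y, hy⟩ : PrimeSpectrum S) ⋖ ⟨z, hz⟩ := ⟨hyz, fun w h1 h2 => by
    have h3 := hzmin w.asIdeal ⟨w.isPrime, h1, (show w.asIdeal ≤ z from h2.le).trans hzq⟩
    have := Ideal.height_strict_mono_of_isPrime (I := w.asIdeal) (J := z) h2
    exact absurd (this.trans_le h3) (lt_irrefl _)⟩
  refine hmax z ⟨hz, hxy.trans hyz.le, hzq, ?_⟩ hyz
  rw [show Ideal.height z = Ideal.height y + 1 from height_eq_add_one_of_covBy hcov]
  exact (ENat.add_one_le_iff (ne_top_of_lt (lt_of_le_of_ne hyp hne))).2 (lt_of_le_of_ne hyp hne)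

end Groth.Agent.SGA2Fin
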