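import Mathlib
import Groth.Agent.SGA2Fin.DualRes
import Groth.Agent.SGA2Fin.HomGamma
import Groth.Agent.LocH.SpreadPd

/-!
The filtration of `Hom(C, Γ_I J)` by the degree in `C`, and finiteness of local cohomology in one degree.
-/

set_option autoImplicit false

namespace Groth.Agent.SGA2Fin

universe u

open CategoryTheory CategoryTheory.Limits CochainComplex.HomComplex LocH

variable {R : Type u} [CommRing R] [IsNoetherianRing R] (M : FMod R) (J : InjectiveResolution (ModuleCat.of R R))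

/-- Cochains from the dual complex into the resolution. -/
abbrev Coch (m : ℕ) : Type u := Cochain (dualCx M) J.cochainComplex (m : ℤ)

/-- Component of a cochain. -/
noncomputable def cmp (m k q : ℕ) (h : k + m = q) :
    Coch M J m →ₗ[R] (((res M k).X →ₗ[R] R) →ₗ[R] J.cocomplex.X q) :=
  LinearMap.llcomp R ((res M k).X →ₗ[R] R) _ _ (CechX.xIso J q).toLinearMap ∘ₗ
    { toFun := fun φ => ((φ.v (k : ℤ) (q : ℤ) (by omega)).hom : ((res M k).X →ₗ[R] R) →ₗ[R] J.cochainComplex.X (q : ℤ))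
      map_add' := fun φ ψ => by
        rw [Cochain.add_v, ModuleCat.hom_add]
        rfl
      map_smul' := fun c φ => by
        rw [Cochain.smul_v, ModuleCat.hom_smul]
        rfl }

theorem cmp_apply (m k q : ℕ) (h : k + m = q) (φ : Coch M J m) (y : (res M k).X →ₗ[R] R) :
    cmp M J m k q h φ y = CechX.xIso J q ((φ.v (k : ℤ) (q : ℤ) (by omega)).hom y) :=
  rfl

theorem ext_cmp {m : ℕ} {φ : Coch M J m} (h : ∀ k, cmp M J m k (k + m) rfl φ = 0) : φ = 0 := by
  refine Cochain.ext _ _ fun a b hab => ModuleCat.hom_ext (LinearMap.ext fun y => ?_)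
  rcases lt_or_ge a 0 with ha | ha
  · have := subsingleton_dualCx_neg M ha
    rw [Subsingleton.elim y 0, map_zero, map_zero]
  · obtain ⟨k, rfl⟩ := Int.eq_ofNat_of_zero_le ha
    obtain rfl : b = ((k + m : ℕ) : ℤ) := by omega
    apply (CechX.xIso J (k + m)).injective
    exact (LinearMap.congr_fun (h k) y).trans (map_zero _).symm

/-- The differential on components. -/
theorem cmp_δ (m k q : ℕ) (h : k + m = q) (θ : Coch M J m) (y : (res M k).X →ₗ[R] R) :
    cmp M J (m + 1) k (q + 1) (by omega) (δ (m : ℤ) ((m + 1 : ℕ) : ℤ) θ) y =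
      J.cocomplex.d q (q + 1) (cmp M J m k q h θ y) +
        ((m + 1 : ℕ) : ℤ).negOnePow • cmp M J m (k + 1) (q + 1) (by omega) θ (y ∘ₗ resd M k) := by
  rw [cmp_apply, cmp_apply, cmp_apply, δ_v (m : ℤ) ((m + 1 : ℕ) : ℤ) (by omega) θ (k : ℤ) ((q + 1 : ℕ) : ℤ) (by omega)
    (q : ℤ) ((k + 1 : ℕ) : ℤ) (by omega) (by omega), CechX.d_xIso]
  rw [← dualCx_d M k y]
  simp [Units.smul_def]

theorem mem_torsionSub_cmp {I : Ideal R} {m k q : ℕ} (h : k + m = q) {φ : Coch M J m}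
    (hφ : φ ∈ DRing.torsionSub I (Coch M J m)) (y : (res M k).X →ₗ[R] R) :
    cmp M J m k q h φ y ∈ DRing.torsionSub I (J.cocomplex.X q) := by
  obtain ⟨n, hn⟩ := hφ
  refine ⟨n, fun a ha => ?_⟩
  rw [← LinearMap.smul_apply, ← map_smul, hn a ha, map_zero, LinearMap.zero_apply]

/-- A cochain with one component. -/
noncomputable def singleCoch (m k q : ℕ) (f : ((res M k).X →ₗ[R] R) →ₗ[R] J.cocomplex.X q) : Coch M J m :=
  Cochain.single (K := dualCx M) (L := J.cochainComplex) (p := (k : ℤ)) (q := (q : ℤ))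
    (ModuleCat.ofHom (X := (res M k).X →ₗ[R] R) (Y := J.cochainComplex.X (q : ℤ)) ((CechX.xIso J q).symm.toLinearMap ∘ₗ f)) (m : ℤ)

theorem cmp_singleCoch (m k q : ℕ) (h : k + m = q) (f : ((res M k).X →ₗ[R] R) →ₗ[R] J.cocomplex.X q) :
    cmp M J m k q h (singleCoch M J m k q f) = f := by
  refine LinearMap.ext fun y => ?_
  rw [cmp_apply, singleCoch, Cochain.single_v]
  exact (CechX.xIso J q).apply_symm_apply _

theorem cmp_singleCoch_ne (m k q : ℕ) (f : ((res M k).X →ₗ[R] R) →ₗ[R] J.cocomplex.X q) {k' q' : ℕ} (h' : k' + m = q')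
    (hne : k' ≠ k) : cmp M J m k' q' h' (singleCoch M J m k q f) = 0 := by
  refine LinearMap.ext fun y => ?_
  rw [cmp_apply, singleCoch, Cochain.single_v_eq_zero _ _ _ _ _ (by exact_mod_cast hne)]
  exact map_zero _

theorem singleCoch_mem {I : Ideal R} (m k q : ℕ) (f : ((res M k).X →ₗ[R] R) →ₗ[R] J.cocomplex.X q)
    (hf : ∀ y, f y ∈ DRing.torsionSub I (J.cocomplex.X q)) :
    singleCoch M J m k q f ∈ DRing.torsionSub I (Coch M J m) := by
  classical
  obtain ⟨G, hG⟩ := (Module.Finite.fg_top : (⊤ : Submodule R ((res M k).X →ₗ[R] R)).FG)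
  choose e he using hf
  refine ⟨G.sup e, fun a ha => ?_⟩
  have h0 : a • f = 0 := LinearMap.ext fun y => by
    have hy : y ∈ Submodule.span R (G : Set ((res M k).X →ₗ[R] R)) := hG ▸ Submodule.mem_top
    rw [LinearMap.smul_apply, LinearMap.zero_apply]
    induction hy using Submodule.span_induction with
    | mem g hg => exact he g _ (Ideal.pow_le_pow_right (Finset.le_sup hg) ha)
    | zero => rw [map_zero, smul_zero]
    | add a b _ _ ha hb => rw [map_add, smul_add, ha, hb, add_zero]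
    | smul c a _ ha => rw [map_smul, smul_comm, ha, smul_zero]
  refine Cochain.ext _ _ fun p q' hpq => ?_
  rw [Cochain.smul_v, Cochain.zero_v, singleCoch]
  rcases eq_or_ne p (k : ℤ) with rfl | hp
  · rcases eq_or_ne q' (q : ℤ) with rfl | hq
    · rw [Cochain.single_v]
      refine ModuleCat.hom_ext (LinearMap.ext fun y => ?_)
      show a • (CechX.xIso J q).symm (f y) = 0
      rw [← map_smul, ← LinearMap.smul_apply, h0, LinearMap.zero_apply, map_zero]
    · rw [Cochain.single_v_eq_zero' _ _ _ _ _ hq, smul_zero]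
  · rw [Cochain.single_v_eq_zero _ _ _ _ _ hp, smul_zero]

theorem δ_mem {I : Ideal R} {m : ℕ} {θ : Coch M J m} (h : θ ∈ DRing.torsionSub I (Coch M J m)) :
    δ (m : ℤ) ((m + 1 : ℕ) : ℤ) θ ∈ DRing.torsionSub I (Coch M J (m + 1)) :=
  DRing.map_mem_torsionSub I (δ_hom R (dualCx M) J.cochainComplex (m : ℤ) ((m + 1 : ℕ) : ℤ)) h

/-- Coboundaries from the left. -/
noncomputable def bk : (k : ℕ) → Submodule R ((res M k).X →ₗ[R] R)
  | 0 => ⊥
  | k + 1 => LinearMap.range (LinearMap.lcomp R R (resd M k))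

/-- The cocycles of the dual complex. -/
noncomputable abbrev zk (k : ℕ) : Submodule R ((res M k).X →ₗ[R] R) := LinearMap.ker (LinearMap.lcomp R R (resd M k))

noncomputable instance (k : ℕ) : AddCommGroup (zk M k) := Submodule.addCommGroup _

/-- `Ext^k(M, R)`. -/
abbrev extK (k : ℕ) : Type u := zk M k ⧸ (bk M k).comap (zk M k).subtype

variable (I : Ideal R) (m : ℕ)

/-- The cycles. -/
noncomputable def cyc : Submodule R (Coch M J (m + 1)) :=
  DRing.torsionSub I (Coch M J (m + 1)) ⊓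
    LinearMap.ker (δ_hom R (dualCx M) J.cochainComplex ((m + 1 : ℕ) : ℤ) ((m + 1 + 1 : ℕ) : ℤ))

/-- The boundaries. -/
noncomputable def bdy : Submodule R (Coch M J (m + 1)) :=
  (DRing.torsionSub I (Coch M J m)).map (δ_hom R (dualCx M) J.cochainComplex (m : ℤ) ((m + 1 : ℕ) : ℤ))

theorem bdy_le_cyc : bdy M J I m ≤ cyc M J I m := by
  rintro _ ⟨θ, hθ, rfl⟩
  exact ⟨δ_mem M J hθ, LinearMap.mem_ker.2 (δ_δ _ _ _ θ)⟩

/-- The filtration by the degree in the dual complex. -/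
noncomputable def fil (l : ℕ) : Submodule R (Coch M J (m + 1)) :=
  cyc M J I m ⊓ ⨅ (k : ℕ) (_ : k < l), LinearMap.ker (cmp M J (m + 1) k (k + (m + 1)) rfl)

theorem cmp_eq_zero_of_mem_fil {l : ℕ} {φ : Coch M J (m + 1)} (h : φ ∈ fil M J I m l) {k q : ℕ} (hk : k < l)
    (hq : k + (m + 1) = q) : cmp M J (m + 1) k q hq φ = 0 := by
  subst hq
  have := h.2
  simp only [SetLike.mem_coe, Submodule.mem_iInf, LinearMap.mem_ker] at this
  exact this k hk

/-- The cocycle relation on components. -/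
theorem cycle_rel {φ : Coch M J (m + 1)} (h : φ ∈ cyc M J I m) {k q : ℕ} (hq : k + (m + 1) = q) (y : (res M k).X →ₗ[R] R) :
    J.cocomplex.d q (q + 1) (cmp M J (m + 1) k q hq φ y) +
      ((m + 1 + 1 : ℕ) : ℤ).negOnePow • cmp M J (m + 1) (k + 1) (q + 1) (by omega) φ (y ∘ₗ resd M k) = 0 := by
  rw [← cmp_δ M J (m + 1) k q hq φ y]
  have h0 : δ ((m + 1 : ℕ) : ℤ) ((m + 1 + 1 : ℕ) : ℤ) φ = 0 := LinearMap.mem_ker.1 h.2
  rw [h0, map_zero, LinearMap.zero_apply]

/-- One step of the filtration. -/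
theorem exists_step (l : ℕ) (hG : GFin J I (extK M l) (l + m + 1)) :
    ∃ T : Submodule R (Coch M J (m + 1)), T.FG ∧ T ≤ cyc M J I m ∧
      ∀ φ ∈ fil M J I m l, ∃ t ∈ T, ∃ b ∈ bdy M J I m, φ - t - b ∈ fil M J I m (l + 1) := by
  classical
  obtain ⟨S, hS, -, hle⟩ := hG
  let F := fil M J I m l
  have hbk : ∀ (φ : Coch M J (m + 1)), φ ∈ F → ∀ y ∈ bk M l, cmp M J (m + 1) l (l + m + 1) (by omega) φ y = 0 := by
    intro φ hφ y hy
    cases l with
    | zero => rw [(Submodule.mem_bot R).1 hy, map_zero]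
    | succ l' =>
      obtain ⟨y', rfl⟩ := hy
      have h1 := cycle_rel M J I m hφ.1 (k := l') (q := l' + 1 + m) (by omega) y'
      rw [cmp_eq_zero_of_mem_fil M J I m hφ (Nat.lt_succ_self l'), LinearMap.zero_apply, map_zero, zero_add,
        smul_eq_zero_iff_eq] at h1
      exact h1
  let Φ : F →ₗ[R] (extK M l →ₗ[R] J.cocomplex.X (l + m + 1)) :=
    { toFun := fun φ => ((bk M l).comap (zk M l).subtype).liftQ
        (cmp M J (m + 1) l (l + m + 1) (by omega) φ.1 ∘ₗ (zk M l).subtype) fun z hz => hbk φ.1 φ.2 _ hz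
      map_add' := fun a b => Submodule.linearMap_qext _ (LinearMap.ext fun z => by
        simp only [LinearMap.comp_apply, Submodule.mkQ_apply, Submodule.liftQ_apply, Submodule.coe_add, map_add,
          LinearMap.add_apply])
      map_smul' := fun c a => Submodule.linearMap_qext _ (LinearMap.ext fun z => by
        simp only [LinearMap.comp_apply, Submodule.mkQ_apply, Submodule.liftQ_apply, Submodule.coe_smul, map_smul,
          LinearMap.smul_apply, RingHom.id_apply]) }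
  have hΦ : (⊤ : Submodule R F).map Φ ≤ S ⊔ gb J I (extK M l) (l + m + 1) := by
    rintro _ ⟨φ, -, rfl⟩
    refine hle (mem_gz.2 ⟨fun n => ?_, fun n => ?_⟩)
    · obtain ⟨z, rfl⟩ := Submodule.Quotient.mk_surjective _ n
      exact mem_torsionSub_cmp M J (by omega) φ.2.1.1 z.1
    · obtain ⟨z, rfl⟩ := Submodule.Quotient.mk_surjective _ n
      have h1 := cycle_rel M J I m φ.2.1 (k := l) (q := l + m + 1) (by omega) z.1
      rw [show z.1 ∘ₗ resd M l = 0 from z.2, map_zero, smul_zero, add_zero] at h1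
      exact h1
  obtain ⟨T₀, -, hT₀, hcov⟩ := exists_fg_cover Φ ⊤ (gb J I (extK M l) (l + m + 1)) S hS hΦ
  refine ⟨T₀.map F.subtype, hT₀.map _, ?_, fun φ hφ => ?_⟩
  · rintro _ ⟨t, -, rfl⟩
    exact t.2.1
  obtain ⟨t, ht, hb⟩ := hcov ⟨φ, hφ⟩ Submodule.mem_top
  obtain ⟨η, hη, e⟩ := hb
  have hφt : φ - t.1 ∈ F := Submodule.sub_mem _ hφ t.2
  -- lift `η` to the whole term
  have := injective_torsionSub J I (l + m)
  obtain ⟨η₁, hη₁⟩ := Module.Injective.out (R := R) (zk M l).subtype (zk M l).injective_subtype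
    ((η ∘ₗ ((bk M l).comap (zk M l).subtype).mkQ).codRestrict (DRing.torsionSub I (J.cocomplex.X (l + m))) fun z => hη _)
  let η₂ : ((res M l).X →ₗ[R] R) →ₗ[R] J.cocomplex.X (l + m) := Submodule.subtype _ ∘ₗ η₁
  have hη₂ : ∀ (z : zk M l), η₂ z.1 = η (Submodule.Quotient.mk z) := fun z => congrArg Subtype.val (hη₁ z)
  let θ₁ := singleCoch M J m l (l + m) η₂
  have hθ₁ : θ₁ ∈ DRing.torsionSub I (Coch M J m) := singleCoch_mem M J m l _ η₂ fun y => (η₁ y).2
  let φ₂ := φ - t.1 - δ (m : ℤ) ((m + 1 : ℕ) : ℤ) θ₁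
  have hφ₂c : φ₂ ∈ cyc M J I m := Submodule.sub_mem _ hφt.1 (bdy_le_cyc M J I m ⟨θ₁, hθ₁, rfl⟩)
  have hbkz : ∀ (l' : ℕ) (y : (res M l').X →ₗ[R] R), y ∘ₗ resd M l' ∈ zk M (l' + 1) := fun l' y =>
    LinearMap.mem_ker.2 (LinearMap.ext fun x => by
      show y (resd M l' (resd M (l' + 1) x)) = 0
      rw [resd_resd, map_zero])
  have hφ₂ : φ₂ ∈ fil M J I m l := by
    refine ⟨hφ₂c, ?_⟩
    simp only [SetLike.mem_coe, Submodule.mem_iInf, LinearMap.mem_ker]
    intro k hk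
    refine LinearMap.ext fun y => ?_
    rw [map_sub, LinearMap.sub_apply, cmp_eq_zero_of_mem_fil M J I m hφt hk, LinearMap.zero_apply, zero_sub, neg_eq_zero]
    have h1 := cmp_δ M J m k (k + m) rfl θ₁ y
    rw [cmp_singleCoch_ne M J m l (l + m) η₂ rfl (Nat.ne_of_lt hk), LinearMap.zero_apply, map_zero, zero_add] at h1
    refine h1.trans ?_
    by_cases hkl : k + 1 = l
    · subst hkl
      have h2 : η₂ (y ∘ₗ resd M k) = 0 := by
        refine (hη₂ ⟨_, hbkz k y⟩).trans ?_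
        rw [(Submodule.Quotient.mk_eq_zero _).2 (show (⟨_, hbkz k y⟩ : zk M (k + 1)) ∈ (bk M (k + 1)).comap (zk M (k + 1)).subtype
          from ⟨y, rfl⟩), map_zero]
      have h3 : cmp M J m (k + 1) (k + m + 1) (by omega) θ₁ (y ∘ₗ resd M k) = 0 := by
        have key : ∀ (q : ℕ) (hq : k + 1 + m = q), cmp M J m (k + 1) q hq θ₁ (y ∘ₗ resd M k) = 0 := by
          rintro q rfl
          rw [cmp_singleCoch]
          exact h2
        exact key _ _
      rw [h3, smul_zero]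
    · rw [cmp_singleCoch_ne M J m l (l + m) η₂ _ hkl, LinearMap.zero_apply, smul_zero]
  -- now the `l`-th component kills cocycles
  have hzero : LinearMap.ker (LinearMap.lcomp R R (resd M l)) ≤
      LinearMap.ker (cmp M J (m + 1) l (l + m + 1) (by omega) φ₂) := by
    intro z hz
    have h1 := cmp_δ M J m l (l + m) rfl θ₁ z
    rw [cmp_singleCoch, show z ∘ₗ resd M l = 0 from hz, map_zero, smul_zero, add_zero] at h1
    rw [LinearMap.mem_ker, map_sub, LinearMap.sub_apply, h1, hη₂ ⟨z, hz⟩, sub_eq_zero]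
    exact (LinearMap.congr_fun e (Submodule.Quotient.mk ⟨z, hz⟩)).symm
  let c := LinearMap.lcomp R R (resd M l)
  let _ : AddCommGroup (LinearMap.range c) := Submodule.addCommGroup _
  obtain ⟨χ₀, hχ₀⟩ := exists_factor_of_le_ker c.rangeRestrict c.surjective_rangeRestrict
    (cmp M J (m + 1) l (l + m + 1) (by omega) φ₂) (by rw [LinearMap.ker_rangeRestrict]; exact hzero)
  have := injective_torsionSub J I (l + m + 1)
  obtain ⟨χ₁, hχ₁⟩ := Module.Injective.out (R := R) (LinearMap.range c).subtype (LinearMap.range c).injective_subtype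
    (χ₀.codRestrict (DRing.torsionSub I (J.cocomplex.X (l + m + 1))) fun x => by
      obtain ⟨y, rfl⟩ := c.surjective_rangeRestrict x
      rw [hχ₀]
      exact mem_torsionSub_cmp M J _ hφ₂c.1 y)
  let θ₂ := singleCoch M J m (l + 1) (l + m + 1)
    (((m + 1 : ℕ) : ℤ).negOnePow • (Submodule.subtype _ ∘ₗ χ₁))
  have hθ₂ : θ₂ ∈ DRing.torsionSub I (Coch M J m) := singleCoch_mem M J m (l + 1) _ _ fun y => by
    rw [LinearMap.smul_apply, Units.smul_def]
    exact zsmul_mem (χ₁ y).2 _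
  refine ⟨t.1, ⟨t, ht, rfl⟩, δ (m : ℤ) ((m + 1 : ℕ) : ℤ) θ₁ + δ (m : ℤ) ((m + 1 : ℕ) : ℤ) θ₂,
    Submodule.add_mem _ ⟨θ₁, hθ₁, rfl⟩ ⟨θ₂, hθ₂, rfl⟩, ?_⟩
  rw [show φ - t.1 - (δ (m : ℤ) ((m + 1 : ℕ) : ℤ) θ₁ + δ (m : ℤ) ((m + 1 : ℕ) : ℤ) θ₂) =
    φ₂ - δ (m : ℤ) ((m + 1 : ℕ) : ℤ) θ₂ by simp only [φ₂]; abel]
  refine ⟨Submodule.sub_mem _ hφ₂c (bdy_le_cyc M J I m ⟨θ₂, hθ₂, rfl⟩), ?_⟩
  simp only [SetLike.mem_coe, Submodule.mem_iInf, LinearMap.mem_ker]
  intro k hk
  refine LinearMap.ext fun y => ?_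
  rw [map_sub, LinearMap.sub_apply, LinearMap.zero_apply, sub_eq_zero]
  have h1 := cmp_δ M J m k (k + m) rfl θ₂ y
  rw [cmp_singleCoch_ne M J m (l + 1) (l + m + 1) _ rfl (Nat.ne_of_lt hk), LinearMap.zero_apply, map_zero, zero_add] at h1
  refine Eq.trans ?_ h1.symm
  rcases Nat.lt_or_ge k l with hkl | hkl
  · rw [cmp_singleCoch_ne M J m (l + 1) (l + m + 1) _ _ (by omega), LinearMap.zero_apply, smul_zero,
      cmp_eq_zero_of_mem_fil M J I m hφ₂ hkl]
    rfl
  · obtain rfl : k = l := by omega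
    have key : ∀ (q : ℕ) (hq : k + 1 + m = q) (hq' : k + (m + 1) = q), cmp M J (m + 1) k q hq' φ₂ y =
        ((m + 1 : ℕ) : ℤ).negOnePow • cmp M J m (k + 1) q hq θ₂ (y ∘ₗ resd M k) := by
      intro q hq hq'
      obtain rfl : q = k + m + 1 := by omega
      rw [cmp_singleCoch, LinearMap.smul_apply, smul_smul, Int.units_mul_self, one_smul, LinearMap.comp_apply]
      have h3 : χ₁ (y ∘ₗ resd M k) = ⟨χ₀ (c.rangeRestrict y), _⟩ := hχ₁ (c.rangeRestrict y)
      rw [h3, Submodule.subtype_apply]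
      exact (hχ₀ y).symm
    exact key _ _ _

theorem exists_fg_cover_cyc (r : ℕ) (hr : SerreReg.PdLE R M.X r) (hG : ∀ l, GFin J I (extK M l) (l + m + 1)) :
    ∃ T : Submodule R (Coch M J (m + 1)), T.FG ∧ T ≤ cyc M J I m ∧ cyc M J I m ≤ T ⊔ bdy M J I m := by
  have hlast : fil M J I m (r + 1) = ⊥ := by
    rw [eq_bot_iff]
    intro φ hφ
    refine (Submodule.mem_bot R).2 (ext_cmp M J fun k => ?_)
    rcases Nat.lt_or_ge k (r + 1) with hk | hk
    · exact cmp_eq_zero_of_mem_fil M J I m hφ hk rfl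
    · refine LinearMap.ext fun y => ?_
      have := subsingleton_res M hr k hk
      rw [Subsingleton.elim y 0, map_zero, map_zero]
  have : ∀ d l, l + d = r + 1 → ∃ T : Submodule R (Coch M J (m + 1)), T.FG ∧ T ≤ cyc M J I m ∧
      fil M J I m l ≤ T ⊔ bdy M J I m := by
    intro d
    induction d with
    | zero =>
      intro l hl
      obtain rfl : l = r + 1 := by omega
      exact ⟨⊥, Submodule.fg_bot, bot_le, by rw [hlast]; exact bot_le⟩
    | succ d ih =>
      intro l hl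
      obtain ⟨T₁, hT₁, hT₁c, hle⟩ := ih (l + 1) (by omega)
      obtain ⟨T₂, hT₂, hT₂c, hstep⟩ := exists_step M J I m l (hG l)
      refine ⟨T₂ ⊔ T₁, hT₂.sup hT₁, sup_le hT₂c hT₁c, fun φ hφ => ?_⟩
      obtain ⟨t, ht, b, hb, h'⟩ := hstep φ hφ
      obtain ⟨t', ht', b', hb', e⟩ := Submodule.mem_sup.1 (hle h')
      exact Submodule.mem_sup.2 ⟨t + t', Submodule.add_mem_sup ht ht', b + b', Submodule.add_mem _ hb hb', by
        rw [show φ = t + b + (φ - t - b) by abel, ← e]; abel⟩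
  obtain ⟨T, hT, hTc, hle⟩ := this (r + 1) 0 (by omega)
  refine ⟨T, hT, hTc, fun φ hφ => hle ⟨hφ, ?_⟩⟩
  simp only [SetLike.mem_coe, Submodule.mem_iInf, LinearMap.mem_ker]
  intro k hk
  omega

theorem finite_of_gFin (fs : List R) (hfs : Ideal.span {a | a ∈ fs} = I) (r : ℕ) (hr : SerreReg.PdLE R M.X r)
    (hG : ∀ l, GFin J I (extK M l) (l + m + 1)) : Module.Finite R (LocCoh.H I (m + 1) M.X) := by
  subst hfs
  have := isKProjective_dualCx M hr
  obtain ⟨e⟩ := CechX.nonempty_H_equiv (dualCx M) (projective_dualCx M) M.X (aug M) (qIso_aug M) J fs (m + 1)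
  obtain ⟨T, hT, hTc, hle⟩ := exists_fg_cover_cyc M J (Ideal.span {a | a ∈ fs}) m r hr hG
  set I := Ideal.span {a | a ∈ fs}
  let X := CechX.gam I (CechX.homCx (dualCx M) J.cochainComplex)
  let g : X.X ((m + 1 : ℕ) : ℤ) →ₗ[R] Coch M J (m + 1) := CechX.gval I (CechX.homCx (dualCx M) J.cochainComplex) _
  have hg : Function.Injective g := CechX.gval_injective _ _
  have hmem : ∀ φ : Coch M J (m + 1), φ ∈ cyc M J I m →
      ∃ x : LinearMap.ker (X.d ((m + 1 : ℕ) : ℤ) (((m + 1 : ℕ) : ℤ) + 1)).hom, g x.1 = φ := fun φ hφ => by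
    refine ⟨⟨⟨φ, hφ.1⟩, LinearMap.mem_ker.2 (CechX.gval_injective _ _ ?_)⟩, rfl⟩
    refine (CechX.gval_d _ _ _ _).trans ?_
    rw [CechX.homCx_d_apply rfl, map_zero]
    exact LinearMap.mem_ker.1 hφ.2
  let W := (LinearMap.ker (X.d ((m + 1 : ℕ) : ℤ) (((m + 1 : ℕ) : ℤ) + 1)).hom)
  let gW : W →ₗ[R] Coch M J (m + 1) := g ∘ₗ W.subtype
  have hTW : (T.comap gW).FG := by
    have := Module.Finite.iff_fg.2 hT
    exact Module.Finite.iff_fg.1 (Module.Finite.of_injective (gW.restrict (p := T.comap gW) (q := T) fun x hx => hx)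
      fun a b h => Subtype.ext (Subtype.ext (hg (show gW a.1 = gW b.1 from congrArg (fun x : T => (x : Coch M J (m + 1))) h))))
  have htop : (T.comap gW).map (CechX.hcls X ((m + 1 : ℕ) : ℤ)) = ⊤ := by
    rw [eq_top_iff]
    intro c _
    obtain ⟨x, rfl⟩ := CechX.hcls_surjective _ c
    have hx : g x.1 ∈ cyc M J I m := by
      refine ⟨CechX.gval_mem I _ x.1, LinearMap.mem_ker.2 ?_⟩
      have h1 := congrArg (CechX.gval I (CechX.homCx (dualCx M) J.cochainComplex) (((m + 1 : ℕ) : ℤ) + 1)) (LinearMap.mem_ker.1 x.2)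
      rw [map_zero] at h1
      replace h1 := (CechX.gval_d _ _ _ _).symm.trans h1
      rw [CechX.homCx_d_apply rfl] at h1
      exact h1
    obtain ⟨t, ht, b, hb, e'⟩ := Submodule.mem_sup.1 (hle hx)
    obtain ⟨y, hy⟩ := hmem t (hTc ht)
    refine ⟨y, show g y.1 ∈ T from hy.symm ▸ ht, ?_⟩
    rw [eq_comm, ← sub_eq_zero, ← map_sub, CechX.hcls_eq_zero_iff _ (m : ℤ) (by omega)]
    obtain ⟨θ, hθ, rfl⟩ := hb
    refine ⟨⟨θ, hθ⟩, CechX.gval_injective _ _ ?_⟩
    refine (CechX.gval_d _ _ _ _).trans ?_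
    rw [CechX.homCx_d_apply (by omega)]
    show δ (m : ℤ) ((m + 1 : ℕ) : ℤ) θ = g (x.1 - y.1)
    rw [map_sub, hy, ← e', add_sub_cancel_left]
    rfl
  have : Module.Finite R ↑(X.homology ((m + 1 : ℕ) : ℤ)) := ⟨htop ▸ hTW.map _⟩
  exact Module.Finite.equiv e

end Groth.Agent.SGA2Fin
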