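import Mathlib
import Groth.Agent.SGA2Fin.Filtration
import Groth.Agent.SGA2Fin.Basic
import Groth.Agent.LocH.AdjDepth
import Groth.Agent.LocH.ChangeRings
import Groth.Agent.S5165

/-!
Finiteness of local cohomology in a single degree.
-/

set_option autoImplicit false

namespace Groth.Agent.SGA2Fin

universe u

open CategoryTheory CategoryTheory.Limits IsLocalRing LocH

variable {S : Type u} [CommRing S] [IsRegularRing S]

/-- The torsion free part: near `V(I)` a module killed off the primes just below `V(I)` has no support in height `q + 1`. -/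
theorem height_ne_of_kill {I : Ideal S} {E : Type u} [AddCommGroup E] [Module S E] [Module.Finite S E] {q : ℕ}
    (htf : ∀ v : E, (∃ n : ℕ, ∀ a ∈ I ^ n, a • v = 0) → v = 0)
    (h : ∀ x y : PrimeSpectrum S, ¬ I ≤ x.asIdeal → x ⋖ y → I ≤ y.asIdeal → x.asIdeal.height = (q : ℕ∞) →
      ∃ u ∉ x.asIdeal, ∀ v : E, u • v = 0)
    (y : Ideal S) (hy : y.IsPrime) (hIy : I ≤ y) (hann : Module.annihilator S E ≤ y) :
    y.height ≠ ((q + 1 : ℕ) : ℕ∞) := by
  intro hht
  obtain ⟨P, hP, hPy⟩ := Ideal.exists_minimalPrimes_le hann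
  have hPp : P.IsPrime := hP.1.1
  have hass := Module.associatedPrimes.minimalPrimes_annihilator_subset_associatedPrimes S E hP
  obtain ⟨-, v, hv⟩ := isAssociatedPrime_iff.1 hass
  have hIP : ¬ I ≤ P := fun hle => by
    have hv0 : v = 0 := htf v ⟨1, fun a ha => by
      have : a ∈ P := hle (by simpa using ha)
      rw [hv, Submodule.mem_colon_singleton] at this
      simpa using this⟩
    apply hPp.ne_top
    rw [Ideal.eq_top_iff_one, hv, Submodule.mem_colon_singleton]
    simp [hv0]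
  obtain ⟨a, haI, haP⟩ := SetLike.not_le_iff_exists.1 hIP
  obtain ⟨x, ⟨hx, hPx, hxy, hax⟩, hmax⟩ := set_has_maximal_iff_noetherian.2 (inferInstance : IsNoetherian S S)
    {x : Ideal S | x.IsPrime ∧ P ≤ x ∧ x < y ∧ a ∉ x}
    ⟨P, hPp, le_rfl, lt_of_le_of_ne hPy (fun e => haP (e ▸ hIy haI)), haP⟩
  have hcov : (⟨x, hx⟩ : PrimeSpectrum S) ⋖ ⟨y, hy⟩ := by
    refine ⟨hxy, fun z hz1 hz2 => ?_⟩
    obtain ⟨P', hP', h1, h2, h3⟩ := LocH.exists_between (p := x) (q := y) hax (hIy haI) hxy.le fun h => by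
      rcases h z.asIdeal z.isPrime hz1.le hz2.le with e | e
      · exact hz1.ne (PrimeSpectrum.ext e.symm)
      · exact hz2.ne (PrimeSpectrum.ext e)
    exact hmax P' ⟨hP', hPx.trans h1.le, h2, h3⟩ h1
  have hhx : Ideal.height x = (q : ℕ∞) := by
    have e : y.height = Ideal.height x + 1 := height_eq_add_one_of_covBy hcov
    rw [hht, Nat.cast_add, Nat.cast_one] at e
    obtain ⟨n, hn⟩ := ENat.ne_top_iff_exists.1 (Ideal.height_ne_top (I := x) hx.ne_top)
    rw [← hn] at e ⊢
    have e' : q + 1 = n + 1 := by exact_mod_cast e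
    exact_mod_cast (by omega : n = q)
  obtain ⟨u, hu, hu'⟩ := h ⟨x, hx⟩ ⟨y, hy⟩ (fun hle => hax (hle haI)) hcov hIy hhx
  exact hu (hPx (hP.1.2 (Module.mem_annihilator.2 hu')))

variable (J : InjectiveResolution (ModuleCat.of S S))

/-- Finiteness for a module killed off the primes just below `V(I)`. -/
theorem gFin_of_kill {I : Ideal S} {E : Type u} [AddCommGroup E] [Module S E] [Module.Finite S E] {q : ℕ}
    (h : ∀ x y : PrimeSpectrum S, ¬ I ≤ x.asIdeal → x ⋖ y → I ≤ y.asIdeal → x.asIdeal.height = (q : ℕ∞) →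
      ∃ u ∉ x.asIdeal, ∀ v : E, u • v = 0) : GFin J I E (q + 1) := by
  classical
  let E₀ := DRing.torsionSub I E
  obtain ⟨G, hG⟩ := (IsNoetherian.noetherian E₀)
  have hex : ∀ g : G, ∃ n : ℕ, ∀ a ∈ I ^ n, a • (g : E) = 0 := fun g => by
    have : (g : E) ∈ E₀ := hG ▸ Submodule.subset_span g.2
    exact this
  choose e he using hex
  have hkill : ∀ a ∈ I ^ (Finset.univ.sup e), ∀ v : E₀, a • v = 0 := by
    intro a ha v
    refine Subtype.ext ?_
    obtain ⟨v, hv0⟩ := v
    show a • v = 0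
    have hv : v ∈ Submodule.span S (G : Set E) := hG.symm ▸ hv0
    clear hv0
    induction hv using Submodule.span_induction with
    | mem g hg => exact he ⟨g, hg⟩ a (Ideal.pow_le_pow_right (Finset.le_sup (Finset.mem_univ _)) ha)
    | zero => rw [smul_zero]
    | add x y _ _ hx hy => rw [smul_add, hx, hy, add_zero]
    | smul c x _ hx => rw [smul_comm, hx, smul_zero]
  refine gFin_of_exact E₀.subtype E₀.injective_subtype E₀.mkQ E₀.mkQ_surjective (LinearMap.exact_subtype_mkQ E₀)
    (gFin_of_killed hkill _) (gFin_of_height_ne J ?_)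
  refine height_ne_of_kill (fun w hw => ?_) fun x y hIx hxy hIy hx => ?_
  · obtain ⟨v, rfl⟩ := E₀.mkQ_surjective w
    obtain ⟨n, hn⟩ := hw
    rw [Submodule.mkQ_apply, Submodule.Quotient.mk_eq_zero]
    refine ⟨Finset.univ.sup e + n, fun a ha => ?_⟩
    rw [pow_add] at ha
    refine Submodule.mul_induction_on ha (fun b hb c hc => ?_) fun b c hb hc => by rw [add_smul, hb, hc, add_zero]
    have hc' : c • v ∈ E₀ := by
      rw [← Submodule.Quotient.mk_eq_zero, Submodule.Quotient.mk_smul]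
      exact hn c hc
    rw [mul_smul]
    exact congrArg Subtype.val (hkill b hb ⟨c • v, hc'⟩)
  · obtain ⟨u, hu, hu'⟩ := h x y hIx hxy hIy hx
    refine ⟨u, hu, fun w => ?_⟩
    obtain ⟨v, rfl⟩ := E₀.mkQ_surjective w
    rw [← map_smul, hu', map_zero]

/-- `Ext^l(M, S)` vanishes at a prime where the matching local cohomology vanishes. -/
theorem exists_kill_extK {S : Type u} [CommRing S] [LocCoh.IsGorensteinRing S] (M : FMod S) {m l : ℕ}
    (x : PrimeSpectrum S) (hx : x.asIdeal.height = ((l + m : ℕ) : ℕ∞))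
    (h : Subsingleton (LocCoh.H (maximalIdeal (Localization.AtPrime x.asIdeal)) m (LocalizedModule x.asIdeal.primeCompl M.X))) :
    ∃ u ∉ x.asIdeal, ∀ v : extK M l, u • v = 0 := by
  classical
  have key : ∀ φ : zk M l, ∃ u ∉ x.asIdeal, u • (Submodule.Quotient.mk φ : extK M l) = 0 := by
    intro φ
    obtain ⟨u, hu, ⟨rfl, hz⟩ | ⟨l', hl, θ, hθ⟩⟩ :=
      exists_kill_cocycle x.asIdeal M (k := l) (hx.trans (by rw [add_comm])) h φ.1 φ.2
    · exact ⟨u, hu, by rw [← Submodule.Quotient.mk_smul, Submodule.Quotient.mk_eq_zero]; exact hz⟩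
    · subst hl
      exact ⟨u, hu, by rw [← Submodule.Quotient.mk_smul, Submodule.Quotient.mk_eq_zero]; exact ⟨θ, hθ⟩⟩
  obtain ⟨G, hG⟩ := (Module.Finite.fg_top : (⊤ : Submodule S (extK M l)).FG)
  have : ∀ g : G, ∃ u ∉ x.asIdeal, u • (g : extK M l) = 0 := fun g => by
    obtain ⟨φ, hφ⟩ := Submodule.Quotient.mk_surjective _ (g : extK M l)
    rw [← hφ]; exact key φ
  choose u hu hu' using this
  refine ⟨∏ g : G, u g, fun hmem => ?_, fun v => ?_⟩
  · obtain ⟨g, -, hg⟩ := x.isPrime.prod_mem_iff.1 hmem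
    exact hu g hg
  · have hv : v ∈ Submodule.span S (G : Set (extK M l)) := hG ▸ Submodule.mem_top
    induction hv using Submodule.span_induction with
    | mem g hg =>
      obtain ⟨c, hc⟩ := Finset.dvd_prod_of_mem u (Finset.mem_univ (⟨g, hg⟩ : G))
      rw [hc, mul_comm, mul_smul, hu' ⟨g, hg⟩, smul_zero]
    | zero => rw [smul_zero]
    | add x y _ _ hx hy => rw [smul_add, hx, hy, add_zero]
    | smul c x _ hx => rw [smul_comm, hx, smul_zero]

/-- `H^{m+1}_I(M)` is finite if `H^m` vanishes at the primes just below `V(I)`. -/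
theorem finite_succ (N : Type u) [AddCommGroup N] [Module S N] [Module.Finite S N] (I : Ideal S) (m : ℕ)
    (h : ∀ x y : PrimeSpectrum S, ¬ I ≤ x.asIdeal → x ⋖ y → I ≤ y.asIdeal →
      Subsingleton (LocCoh.H (maximalIdeal (Localization.AtPrime x.asIdeal)) m (LocalizedModule x.asIdeal.primeCompl N))) :
    Module.Finite S (LocCoh.H I (m + 1) N) := by
  let M : FMod S := ⟨ModuleCat.of S N, inferInstanceAs (Module.Finite S N)⟩
  obtain ⟨r, hr⟩ := S5165.result S N
  obtain ⟨G, hG⟩ := (IsNoetherian.noetherian I)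
  exact finite_of_gFin M (InjectiveResolution.of (ModuleCat.of S S)) I m G.toList (by simpa using hG) r hr fun l =>
    gFin_of_kill _ fun x y hIx hxy hIy hx => exists_kill_extK M x hx (h x y hIx hxy hIy)

end Groth.Agent.SGA2Fin
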