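import Mathlib
import Groth.Agent.S2929
import Groth.Agent.SGA2Fin.Basic
import Groth.Agent.LocH.AdjDepth
import Groth.Agent.LocH.FiniteH
import Groth.Agent.LocH.Artinian

/-!
Finiteness of local cohomology in a range, for quotients of regular rings.
-/

set_option autoImplicit false

namespace Groth.Agent.SGA2Fin

universe u

open CategoryTheory IsLocalRing

variable {A : Type u} [CommRing A]

theorem le_of_lt_add_one {a : ℕ∞} {n : ℕ} (h : (n : ℕ∞) < a + 1) : (n : ℕ∞) ≤ a := by
  rcases eq_or_ne a ⊤ with rfl | ha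
  · exact le_top
  · obtain ⟨k, rfl⟩ := ENat.ne_top_iff_exists.1 ha
    have h' : n < k + 1 := by exact_mod_cast h
    exact_mod_cast (by omega : n ≤ k)

theorem exists_covBy_of_relCodim_eq_one {I : Ideal A} {p : PrimeSpectrum A} (h : SGA2.relCodim I p = 1) :
    ∃ q : PrimeSpectrum A, I ≤ q.asIdeal ∧ p ⋖ q := by
  have hne : Nonempty {q : PrimeSpectrum A // p ≤ q ∧ I ≤ q.asIdeal} := by
    by_contra hemp
    rw [not_nonempty_iff] at hemp
    rw [SGA2.relCodim, iInf_of_empty] at h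
    exact ENat.natCast_ne_top 1 (by exact_mod_cast h.symm)
  obtain ⟨⟨q, hpq, hIq⟩, hq⟩ := ENat.exists_eq_iInf
    (fun q : {q : PrimeSpectrum A // p ≤ q ∧ I ≤ q.asIdeal} => Order.height (⟨q.1, q.2.1⟩ : Set.Ici p))
  replace hq : Order.height (⟨q, hpq⟩ : Set.Ici p) = 1 := hq.trans h
  refine ⟨q, hIq, lt_of_le_of_ne hpq fun e => ?_, fun z hz1 hz2 => ?_⟩
  · subst e
    have : Order.height (⟨p, hpq⟩ : Set.Ici p) = 0 := Order.height_eq_zero.2 fun b _ => b.2
    rw [this] at hq
    exact zero_ne_one hq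
  · let z' : Set.Ici p := ⟨z, hz1.le⟩
    have h1 := Order.height_add_one_le (show (⟨p, Set.self_mem_Ici⟩ : Set.Ici p) < z' from hz1)
    have h2 := Order.height_add_one_le (show z' < ⟨q, hpq⟩ from hz2)
    rw [hq] at h2
    have h3 := le_trans (add_le_add_left (le_trans le_add_self h1) 1) h2
    exact absurd (show ((1 + 1 : ℕ) : ℕ∞) ≤ ((1 : ℕ) : ℕ∞) by exact_mod_cast h3) (by simp)

/-- Finiteness in degrees `≤ n` forces depth `≥ n` just below `V(I)`. -/
theorem le_depth_of_finite [IsNoetherianRing A] {I : Ideal A} {M : Type u} [AddCommGroup M] [Module A M]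
    [Module.Finite A M] {n : ℕ} (h : ∀ i : ℕ, i ≤ n → Module.Finite A (LocCoh.H I i M))
    {p q : PrimeSpectrum A} (hIp : ¬ I ≤ p.asIdeal) (hIq : I ≤ q.asIdeal) (hpq : p ⋖ q) :
    (n : ℕ∞) ≤ LocCoh.depth (Localization.AtPrime p.asIdeal) (LocalizedModule p.asIdeal.primeCompl M) := by
  classical
  by_contra hlt
  rw [not_le] at hlt
  obtain ⟨s, hs⟩ := ENat.ne_top_iff_exists.1 hlt.ne_top
  rw [← hs, Nat.cast_lt] at hlt
  obtain ⟨b, hb, hbp⟩ := SetLike.not_le_iff_exists.1 hIp
  have hk : ∀ i : ℕ, i ≤ n → ∃ k : ℕ, ∀ a ∈ I ^ k, ∀ x : LocCoh.H I i M, a • x = 0 := fun i hi => by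
    have := h i hi
    exact LocH.exists_pow_killed_of_finite I i (ModuleCat.of A M)
  choose k hk using hk
  let K := Finset.univ.sup fun i : Fin (n + 1) => k i (Nat.lt_succ_iff.1 i.2)
  let J := injectiveResolution (ModuleCat.of A M)
  obtain ⟨i, hi, hne⟩ := LocH.exists_not_uKilled_of_adjacent (a := I) (b := b) M J hpq.lt
    (fun P hP h1 h2 => by
      rcases hpq.eq_or_eq (show p ≤ ⟨P, hP⟩ from h1) (show ⟨P, hP⟩ ≤ q from h2) with e | e
      · exact Or.inl (congrArg PrimeSpectrum.asIdeal e)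
      · exact Or.inr (congrArg PrimeSpectrum.asIdeal e))
    hIq hIp hbp (hIq hb) s hs.symm K
  refine hne fun x hx hdx => ?_
  obtain ⟨z, rfl⟩ := LocH.exists_cycle J i x hx hdx
  rw [← LocH.cycleVal_smul, ← LocH.cyclesToH_eq_zero_iff_mem, map_smul]
  refine hk i (by omega) _ (Ideal.pow_le_pow_right ?_ (Ideal.pow_mem_pow hb K)) _
  exact Finset.le_sup (f := fun i : Fin (n + 1) => k i (Nat.lt_succ_iff.1 i.2)) (Finset.mem_univ ⟨i, by omega⟩)

variable {R : Type u} [CommRing R] [IsRegularRing R] [IsNoetherianRing A] (π : R →+* A) (hπ : Function.Surjective π)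
  (I : Ideal A) (M : Type u) [AddCommGroup M] [Module A M] [Module.Finite A M] {n : ℕ}

include hπ in
/-- Depth `≥ n` in relative codimension one spreads to all primes outside `V(I)`. -/
theorem subsingleton_H_of_le_depth
    (h : ∀ p : PrimeSpectrum A, ¬ I ≤ p.asIdeal → SGA2.relCodim I p = 1 →
      (n : ℕ∞) ≤ LocCoh.depth (Localization.AtPrime p.asIdeal) (LocalizedModule p.asIdeal.primeCompl M))
    (i : ℕ) (hi : i ≤ n) (p : PrimeSpectrum A) (hIp : ¬ I ≤ p.asIdeal) (c j : ℕ) (hc : SGA2.relCodim I p = c)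
    (hj : j + c = i) :
    Subsingleton (LocCoh.H (maximalIdeal (Localization.AtPrime p.asIdeal)) j (LocalizedModule p.asIdeal.primeCompl M)) := by
  letI : Algebra R A := π.toAlgebra
  letI : Module R M := Module.compHom M π
  have : IsScalarTower R A M := ⟨fun x y z => mul_smul (π x) y z⟩
  have : Module.Finite R A := Module.Finite.of_surjective (Algebra.linearMap R A) hπ
  have : Module.Finite R M := Module.Finite.trans A M
  exact subsingleton_of_codim_one (S := R) hπ M I i (fun p' hIp' h1 j' hj' =>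
    (LocH.le_idealDepth_iff _ _ n).1 (h p' hIp' h1) j' (by omega)) p hIp c j hc hj

include hπ in
theorem lt_depth_add_relCodim
    (h : ∀ p : PrimeSpectrum A, ¬ I ≤ p.asIdeal → SGA2.relCodim I p = 1 →
      (n : ℕ∞) ≤ LocCoh.depth (Localization.AtPrime p.asIdeal) (LocalizedModule p.asIdeal.primeCompl M))
    (p : PrimeSpectrum A) (hIp : ¬ I ≤ p.asIdeal) :
    (n : ℕ∞) < LocCoh.depth (Localization.AtPrime p.asIdeal) (LocalizedModule p.asIdeal.primeCompl M) +
      SGA2.relCodim I p := by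
  rcases eq_or_ne (SGA2.relCodim I p) ⊤ with e | e
  · rw [e, add_top]; exact ENat.coe_lt_top n
  obtain ⟨c, hc⟩ := ENat.ne_top_iff_exists.1 e
  rw [← hc]
  by_cases hcn : n < c
  · exact lt_of_lt_of_le (by exact_mod_cast hcn) le_add_self
  have hd : ((n + 1 - c : ℕ) : ℕ∞) ≤
      LocCoh.depth (Localization.AtPrime p.asIdeal) (LocalizedModule p.asIdeal.primeCompl M) :=
    (LocH.le_idealDepth_iff _ _ _).2 fun j hj =>
      subsingleton_H_of_le_depth π hπ I M h (j + c) (by omega) p hIp c j hc.symm rfl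
  refine lt_of_lt_of_le ?_ (add_le_add hd le_rfl)
  exact_mod_cast (by omega : n < n + 1 - c + c)

include hπ in
theorem finite_of_le_depth
    (h : ∀ p : PrimeSpectrum A, ¬ I ≤ p.asIdeal → SGA2.relCodim I p = 1 →
      (n : ℕ∞) ≤ LocCoh.depth (Localization.AtPrime p.asIdeal) (LocalizedModule p.asIdeal.primeCompl M))
    (i : ℕ) (hi : i ≤ n) : Module.Finite A (LocCoh.H I i M) :=
  S2929.result R A π hπ I M i (subsingleton_H_of_le_depth π hπ I M h i hi)

omit [IsNoetherianRing A] in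
theorem relCodim_maximalIdeal [IsLocalRing A] (p : PrimeSpectrum A) :
    (SGA2.relCodim (maximalIdeal A) p : WithBot ℕ∞) = ringKrullDim (A ⧸ p.asIdeal) := by
  let m : Set.Ici p := ⟨closedPoint A, le_maximalIdeal p.isPrime.ne_top⟩
  letI : OrderTop (Set.Ici p) := { top := m, le_top := fun x => le_maximalIdeal x.1.isPrime.ne_top }
  have h1 : SGA2.relCodim (maximalIdeal A) p = Order.height m := by
    refine le_antisymm (iInf_le (fun q : {q : PrimeSpectrum A // p ≤ q ∧ maximalIdeal A ≤ q.asIdeal} =>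
      Order.height (⟨q.1, q.2.1⟩ : Set.Ici p)) ⟨closedPoint A, m.2, le_rfl⟩) (le_iInf fun q => ?_)
    exact Order.height_mono (show m ≤ ⟨q.1, q.2.1⟩ from q.2.2)
  rw [h1, ringKrullDim_quotient]
  exact (Order.height_top_eq_krullDim (α := Set.Ici p)).trans rfl

theorem isFiniteLength_H_iff [IsLocalRing A] (i : ℕ) :
    IsFiniteLength A (LocCoh.H (maximalIdeal A) i M) ↔ Module.Finite A (LocCoh.H (maximalIdeal A) i M) := by
  rw [isFiniteLength_iff_isNoetherian_isArtinian]
  refine ⟨fun h => ?_, fun h => ⟨inferInstance, LocH.isArtinian_localCohomology _ i M⟩⟩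
  have := h.1
  exact inferInstance

end Groth.Agent.SGA2Fin
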