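import Mathlib
import Groth.Agent.SGA2Fin.DualRes

/-!
Annihilators of local cohomology over regular local rings and the dual resolution.
-/

set_option autoImplicit false

namespace Groth.Agent.SGA2Fin

universe u

open CategoryTheory CategoryTheory.Limits IsLocalRing LocH

section Converse

variable {S : Type u} [CommRing S] [LocCoh.IsGorensteinRing S] (M : FMod S) (x : Ideal S) [x.IsPrime]

/-- The dual resolution detects the vanishing of local cohomology at a prime. -/
theorem subsingleton_of_kill_cocycle {j k : ℕ} (hx : x.height = ((j + k : ℕ) : ℕ∞))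
    (h : ∀ φ : (res M k).X →ₗ[S] S, φ ∘ₗ resd M k = 0 → ∃ u ∉ x, (k = 0 ∧ u • φ = 0) ∨
      ∃ (l : ℕ) (hl : l + 1 = k) (θ : (res M l).X →ₗ[S] S), hl ▸ (θ ∘ₗ resd M l) = u • φ) :
    Subsingleton (LocCoh.H (maximalIdeal (Localization.AtPrime x)) j (LocalizedModule x.primeCompl M.X)) := by
  have hd : ringKrullDim (Localization.AtPrime x) = (j + k : ℕ) := by
    rw [IsLocalization.AtPrime.ringKrullDim_eq_height x, hx]; rfl
  have hshift : ∀ m, m < k → (Subsingleton (LocCoh.H (maximalIdeal (Localization.AtPrime x)) (j + m)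
      (LocalizedModule x.primeCompl (syz M m).X)) ↔
      Subsingleton (LocCoh.H (maximalIdeal (Localization.AtPrime x)) j (LocalizedModule x.primeCompl M.X))) := by
    intro m
    induction m with
    | zero => exact fun _ => Iff.rfl
    | succ m ih =>
      intro hm
      exact (WeakDuality.subsingleton_succ_iff (locSES_shortExact (resπ M m) (resπ_surjective M m) x) hd
        (show (j + m) + 1 < j + k by omega)).symm.trans (ih (by omega))
  have hcoc : ∀ (n : ℕ) (φ : (syz M n).X →ₗ[S] S), (φ ∘ₗ resπ M n) ∘ₗ resd M n = 0 := fun n φ =>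
    LinearMap.ext fun y => (congrArg φ ((exact_resι_resπ M n).apply_apply_eq_zero _)).trans (map_zero φ)
  match k with
  | 0 =>
    rw [WeakDuality.subsingleton_top_iff (show ringKrullDim (Localization.AtPrime x) = (j : ℕ) from hd),
      subsingleton_dual_iff]
    intro φ
    obtain ⟨u, hu, ⟨-, h0⟩ | ⟨l, hl, -⟩⟩ := h (φ ∘ₗ resπ M 0) (hcoc 0 φ)
    · refine ⟨u, hu, LinearMap.ext fun m => ?_⟩
      obtain ⟨v, rfl⟩ := resπ_surjective M 0 m
      exact LinearMap.congr_fun h0 v
    · omega
  | l + 1 =>
    refine (hshift l (Nat.lt_succ_self l)).1 ((WeakDuality.subsingleton_pred_iff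
      (locSES_shortExact (resπ M l) (resπ_surjective M l) x) (e := j + l) hd).2 ?_)
    intro Φ
    change LocalizedModule x.primeCompl (LinearMap.ker (resπ M l)) →ₗ[Localization.AtPrime x] Localization.AtPrime x at Φ
    obtain ⟨φ, s, hs⟩ := exists_map_eq_smul x (M := LinearMap.ker (resπ M l)) Φ
    obtain ⟨u, hu, ⟨h0, -⟩ | ⟨l', hl, θ, hθ⟩⟩ := h (φ ∘ₗ resπ M (l + 1)) (hcoc (l + 1) φ)
    · omega
    obtain rfl : l' = l := by omega
    have hψ : ∀ m : LinearMap.ker (resπ M l'), θ m.1 = u • φ m := fun m => by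
      obtain ⟨v, rfl⟩ := resπ_surjective M (l' + 1) m
      exact LinearMap.congr_fun hθ v
    let U : x.primeCompl := ⟨u, hu⟩ * s
    refine ⟨IsLocalization.mk' (Localization.AtPrime x) (1 : S) U • locDual x θ, ext_loc x fun m => ?_⟩
    show IsLocalization.mk' (Localization.AtPrime x) (1 : S) U *
      locDual x θ (LocalizedModule.map x.primeCompl (LinearMap.ker (resπ M l')).subtype
        (LocalizedModule.mkLinearMap x.primeCompl (LinearMap.ker (resπ M l')) m)) = _
    have hloc : LocalizedModule.map x.primeCompl (LinearMap.ker (resπ M l')).subtype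
        (LocalizedModule.mkLinearMap x.primeCompl (LinearMap.ker (resπ M l')) m) =
          LocalizedModule.mkLinearMap x.primeCompl (res M l').X m.1 := by
      simp [LocalizedModule.map_mk]
    rw [hloc, locDual_mk, hψ m, smul_eq_mul, map_mul, hs, Algebra.smul_def,
      ← mul_assoc (algebraMap S _ u), ← map_mul, ← mul_assoc,
      show IsLocalization.mk' (Localization.AtPrime x) (1 : S) U * algebraMap S _ (u * s) = 1 from
        (IsLocalization.mk'_spec _ (1 : S) U).trans (map_one _), one_mul]

/-- Above the height of the prime every cocycle is locally a coboundary. -/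
theorem exists_kill_cocycle_high {h k : ℕ} (hx : x.height = (h : ℕ∞)) (hk : h < k)
    (φ : (res M k).X →ₗ[S] S) (hφ : φ ∘ₗ resd M k = 0) :
    ∃ u ∉ x, ∃ (l : ℕ) (hl : l + 1 = k) (θ : (res M l).X →ₗ[S] S), hl ▸ (θ ∘ₗ resd M l) = u • φ := by
  obtain ⟨l, rfl⟩ : ∃ l, k = l + 1 := ⟨k - 1, by omega⟩
  obtain ⟨ψ, hψ⟩ := exists_factor_of_le_ker (resπ M (l + 1)) (resπ_surjective M (l + 1)) φ fun y hy => by
    obtain ⟨z, rfl⟩ := (exact_resι_resπ M (l + 1) y).1 hy
    obtain ⟨w, rfl⟩ := resπ_surjective M (l + 2) z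
    exact LinearMap.congr_fun hφ w
  have hd : ringKrullDim (Localization.AtPrime x) = (h : ℕ) := by
    rw [IsLocalization.AtPrime.ringKrullDim_eq_height x, hx]; rfl
  have hlow : ∀ m i, i < h → i < m → Subsingleton (LocCoh.H (maximalIdeal (Localization.AtPrime x)) i
      (LocalizedModule x.primeCompl (syz M m).X)) := by
    intro m
    induction m with
    | zero => exact fun i _ hi => absurd hi (Nat.not_lt_zero i)
    | succ m ih =>
      intro i hih him
      have hfree : ∀ i', i' < h → Subsingleton ↑((localCohomology (maximalIdeal (Localization.AtPrime x)) i').obj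
          (locSES (resπ M m) x).X₂) :=
        fun i' hi' => WeakDuality.subsingleton_H_free (X := locSES (resπ M m) x) hd hi'
      cases i with
      | zero =>
        have := hfree 0 hih
        exact (map_injective_zero _ (locSES (resπ M m) x).f
          (LocalizedModule.map_injective _ _ (LinearMap.ker (resπ M m)).injective_subtype)).subsingleton
      | succ i =>
        exact subsingleton_X₁ (locSES_shortExact (resπ M m) (resπ_surjective M m) x) i (hfree (i + 1) hih)
          (ih i (by omega) (by omega))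
  obtain ⟨u, hu, θ, hθ⟩ : ∃ u ∉ x, ∃ θ : (res M l).X →ₗ[S] S,
      u • ψ = θ ∘ₗ (LinearMap.ker (resπ M l)).subtype := by
    cases h with
    | zero =>
      have : Injective (ModuleCat.of (Localization.AtPrime x) (Localization.AtPrime x)) :=
        injective_iff_hasInjectiveDimensionLT_one.2 (WeakDuality.hasInjectiveDimensionLT_self hd)
      have := Module.injective_module_of_injective_object (Localization.AtPrime x) (Localization.AtPrime x)
      obtain ⟨Ψ, hΨ⟩ := Module.Injective.out (R := Localization.AtPrime x)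
        (LocalizedModule.map x.primeCompl (LinearMap.ker (resπ M l)).subtype)
        (LocalizedModule.map_injective _ _ (LinearMap.ker (resπ M l)).injective_subtype) (locDual x ψ)
      exact exists_extend_of_local (resπ M l) x ψ ⟨Ψ, LinearMap.ext hΨ⟩
    | succ e =>
      exact exists_extend_of_pred (resπ M l) (resπ_surjective M l) x hd (hlow l e e.lt_succ_self (by omega)) ψ
  refine ⟨u, hu, l, rfl, θ, LinearMap.ext fun y => ?_⟩
  show θ (resι M l (resπ M (l + 1) y)) = u • φ y
  rw [← hψ]
  exact (LinearMap.congr_fun hθ (resπ M (l + 1) y)).symm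

end Converse

section Killed

variable {S : Type u} [CommRing S] [LocCoh.IsGorensteinLocalRing S] {d : ℕ} (hd : ringKrullDim S = d)

include hd in
theorem eq_zero_of_forall_hom {E : Type u} [AddCommGroup E] [Module S E] (v : E)
    (h : ∀ g : E →ₗ[S] WeakDuality.Top S d, g v = 0) : v = 0 := by
  by_contra hv
  let W := Submodule.span S {v}
  have hvW : v ∈ W := Submodule.mem_span_singleton_self v
  have : Nontrivial W := ⟨⟨⟨v, hvW⟩, 0, fun e => hv (congrArg Subtype.val e)⟩⟩
  obtain ⟨g, hg⟩ := WeakDuality.exists_hom_top_ne_zero hd W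
  have := WeakDuality.injective_top hd
  obtain ⟨g', hg'⟩ := Module.Injective.out (R := S) W.subtype W.injective_subtype g
  refine hg (LinearMap.ext fun ⟨w, hw⟩ => ?_)
  obtain ⟨c, rfl⟩ := Submodule.mem_span_singleton.1 hw
  rw [show (⟨c • v, hw⟩ : W) = c • ⟨v, hvW⟩ from rfl, map_smul, ← hg' ⟨v, hvW⟩, W.subtype_apply, h, smul_zero,
    LinearMap.zero_apply]

variable (M : FMod S)

include hd in
/-- An element killing `H^{d-k}` moves every cocycle of degree `k` to a coboundary. -/
theorem smul_cocycle_eq {j k : ℕ} (hjk : j + k = d) (a : S)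
    (ha : ∀ y : LocCoh.H (maximalIdeal S) j M.X, a • y = 0) (φ : (res M k).X →ₗ[S] S) (hφ : φ ∘ₗ resd M k = 0) :
    (k = 0 ∧ a • φ = 0) ∨ ∃ (l : ℕ) (hl : l + 1 = k) (θ : (res M l).X →ₗ[S] S), hl ▸ (θ ∘ₗ resd M l) = a • φ := by
  subst hjk
  obtain ⟨ψ, hψ⟩ := exists_factor_of_le_ker (resπ M k) (resπ_surjective M k) φ fun y hy => by
    obtain ⟨z, rfl⟩ := (exact_resι_resπ M k y).1 hy
    obtain ⟨w, rfl⟩ := resπ_surjective M (k + 1) z
    exact LinearMap.congr_fun hφ w
  let X : ℕ → ShortComplex (ModuleCat.{u} S) := fun m =>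
    ShortComplex.mk (ModuleCat.ofHom (resι M m)) (ModuleCat.ofHom (resπ M m))
      (ModuleCat.hom_ext (LinearMap.ext fun v => (exact_resι_resπ M m).apply_apply_eq_zero v))
  have hX : ∀ m, (X m).ShortExact := fun m =>
    { exact := (ShortComplex.ShortExact.moduleCat_exact_iff_function_exact (X m)).2 (exact_resι_resπ M m)
      mono_f := (ModuleCat.mono_iff_injective _).2 (resι_injective M m)
      epi_g := (ModuleCat.epi_iff_surjective _).2 (resπ_surjective M m) }
  have hfree : ∀ m i, i < j + k → Subsingleton (LocCoh.H (maximalIdeal S) i (res M m).X) := fun m i hi => by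
    have : Module.Free S (res M m).X := Module.free_of_flat_of_isLocalRing
    have : Module.Free S (X m).X₂ := this
    have : Module.Finite S (X m).X₂ := inferInstanceAs (Module.Finite S (res M m).X)
    exact WeakDuality.subsingleton_H_free (X := X m) hd hi
  have hshift : ∀ m, m < k → ∀ y : LocCoh.H (maximalIdeal S) (j + m) (syz M m).X, a • y = 0 := by
    intro m
    induction m with
    | zero => exact fun _ => ha
    | succ m ih =>
      intro hm y
      have h0 : (localCohomology (maximalIdeal S) (j + m + 1)).map (X m).f y = 0 :=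
        (hfree m (j + m + 1) (by omega)).elim _ _
      obtain ⟨z, rfl⟩ := exact₁ (hX m) (j + m) h0
      rw [← map_smul]
      exact (congrArg _ (ih (by omega) z)).trans (map_zero _)
  match k with
  | 0 =>
    refine Or.inl ⟨rfl, LinearMap.ext fun y => ?_⟩
    have h0 : a • ψ = 0 := eq_zero_of_forall_hom hd _ fun g => by
      obtain ⟨w, rfl⟩ := (WeakDuality.bijective_pair hd M.X).2 g
      have h1 : a • WeakDuality.pair (j + 0) M.X w = 0 := by rw [← map_smul]; exact (congrArg _ (ha w)).trans (map_zero _)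
      exact (map_smul (WeakDuality.pair (j + 0) M.X w) a ψ).trans (LinearMap.congr_fun h1 ψ)
    rw [LinearMap.smul_apply, ← hψ]
    exact LinearMap.congr_fun h0 (resπ M 0 y)
  | l + 1 =>
    let T : ((res M l).X →ₗ[S] S) →ₗ[S] ((syz M (l + 1)).X →ₗ[S] S) := LinearMap.lcomp S S (resι M l)
    let _ : AddCommGroup (LinearMap.range T) := Submodule.addCommGroup _
    have hmem : a • ψ ∈ LinearMap.range T := by
      rw [← Submodule.Quotient.mk_eq_zero]
      refine eq_zero_of_forall_hom hd _ fun g => ?_
      obtain ⟨x, hx⟩ := (WeakDuality.bijective_pair hd (syz M (l + 1)).X).2 (g ∘ₗ (LinearMap.range T).mkQ)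
      have h0 : (localCohomology (maximalIdeal S) (j + l + 1)).map (X l).f x = 0 := by
        refine (WeakDuality.bijective_pair (d := j + l + 1) hd (res M l).X).1 (LinearMap.ext fun θ => ?_)
        rw [map_zero, LinearMap.zero_apply]
        refine (WeakDuality.pair_natural (resι M l) x θ).trans ?_
        rw [hx, LinearMap.comp_apply, Submodule.mkQ_apply,
          (Submodule.Quotient.mk_eq_zero _).2 (show θ ∘ₗ resι M l ∈ LinearMap.range T from ⟨θ, rfl⟩), map_zero]
      obtain ⟨z, rfl⟩ := exact₁ (hX l) (j + l) h0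
      have e := LinearMap.congr_fun hx (a • ψ)
      rw [LinearMap.comp_apply, Submodule.mkQ_apply] at e
      rw [← e, map_smul, ← LinearMap.smul_apply, ← map_smul, ← map_smul]
      rw [hshift l (Nat.lt_succ_self l) z, map_zero, map_zero, LinearMap.zero_apply]
    obtain ⟨θ, hθ⟩ := hmem
    refine Or.inr ⟨l, rfl, θ, LinearMap.ext fun y => ?_⟩
    rw [LinearMap.smul_apply, ← hψ]
    exact LinearMap.congr_fun hθ (resπ M (l + 1) y)

include hd in
/-- Conversely, an element moving every cocycle of degree `k` to a coboundary kills `H^{d-k}`. -/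
theorem smul_H_eq_zero {j k : ℕ} (hjk : j + k = d) (a : S)
    (h : ∀ φ : (res M k).X →ₗ[S] S, φ ∘ₗ resd M k = 0 → (k = 0 ∧ a • φ = 0) ∨
      ∃ (l : ℕ) (hl : l + 1 = k) (θ : (res M l).X →ₗ[S] S), hl ▸ (θ ∘ₗ resd M l) = a • φ)
    (y : LocCoh.H (maximalIdeal S) j M.X) : a • y = 0 := by
  subst hjk
  let X : ℕ → ShortComplex (ModuleCat.{u} S) := fun m =>
    ShortComplex.mk (ModuleCat.ofHom (resι M m)) (ModuleCat.ofHom (resπ M m))
      (ModuleCat.hom_ext (LinearMap.ext fun v => (exact_resι_resπ M m).apply_apply_eq_zero v))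
  have hX : ∀ m, (X m).ShortExact := fun m =>
    { exact := (ShortComplex.ShortExact.moduleCat_exact_iff_function_exact (X m)).2 (exact_resι_resπ M m)
      mono_f := (ModuleCat.mono_iff_injective _).2 (resι_injective M m)
      epi_g := (ModuleCat.epi_iff_surjective _).2 (resπ_surjective M m) }
  have hcoc : ∀ (n : ℕ) (φ : (syz M n).X →ₗ[S] S), (φ ∘ₗ resπ M n) ∘ₗ resd M n = 0 := fun n φ =>
    LinearMap.ext fun v => (congrArg φ ((exact_resι_resπ M n).apply_apply_eq_zero _)).trans (map_zero φ)
  have hδ : ∀ m i, i < j + k → Function.Injective (delta (hX m) i (I := maximalIdeal S)) := fun m i hi => by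
    refine (injective_iff_map_eq_zero _).2 fun w hw => ?_
    obtain ⟨v, rfl⟩ := exact₃ (hX m) i hw
    have : Module.Free S (res M m).X := Module.free_of_flat_of_isLocalRing
    have : Module.Free S (X m).X₂ := this
    have : Module.Finite S (X m).X₂ := inferInstanceAs (Module.Finite S (res M m).X)
    have := WeakDuality.subsingleton_H_free (X := X m) hd hi
    rw [Subsingleton.elim v 0, map_zero]
  have hback : ∀ m, m < k → (∀ w : LocCoh.H (maximalIdeal S) (j + m) (syz M m).X, a • w = 0) →
      ∀ w : LocCoh.H (maximalIdeal S) j M.X, a • w = 0 := by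
    intro m
    induction m with
    | zero => exact fun _ hw => hw
    | succ m ih =>
      intro hm hw
      refine ih (by omega) fun w => hδ m (j + m) (by omega) ?_
      exact (map_smul (delta (hX m) (j + m)) a w).trans ((hw _).trans (map_zero _).symm)
  match k with
  | 0 =>
    refine (WeakDuality.bijective_pair (d := j + 0) hd M.X).1 (LinearMap.ext fun φ => ?_)
    have h0 : a • φ = 0 := by
      rcases h (φ ∘ₗ resπ M 0) (hcoc 0 φ) with ⟨-, h0⟩ | ⟨l, hl, -⟩
      · refine LinearMap.ext fun m => ?_
        obtain ⟨v, rfl⟩ := resπ_surjective M 0 m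
        exact LinearMap.congr_fun h0 v
      · omega
    rw [map_zero, LinearMap.zero_apply, map_smul, LinearMap.smul_apply, ← map_smul, h0, map_zero]
  | l + 1 =>
    refine hback l (Nat.lt_succ_self l) (fun w => hδ l (j + l) (by omega) ?_) y
    refine (WeakDuality.bijective_pair (d := j + (l + 1)) hd (syz M (l + 1)).X).1 (LinearMap.ext fun ψ => ?_)
    rw [map_zero, map_zero, LinearMap.zero_apply, map_smul]
    refine (congrArg (fun z => z ψ) (map_smul (WeakDuality.pair (j + (l + 1)) (syz M (l + 1)).X) a _)).trans ?_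
    refine (map_smul (WeakDuality.pair (j + (l + 1)) (syz M (l + 1)).X (delta (hX l) (j + l) w)) a ψ).symm.trans ?_
    obtain ⟨θ, hθ⟩ : ∃ θ : (res M l).X →ₗ[S] S, θ ∘ₗ resι M l = a • ψ := by
      rcases h (ψ ∘ₗ resπ M (l + 1)) (hcoc (l + 1) ψ) with ⟨h0, -⟩ | ⟨l', hl, θ, hθ⟩
      · omega
      · obtain rfl : l' = l := by omega
        refine ⟨θ, LinearMap.ext fun m => ?_⟩
        obtain ⟨v, rfl⟩ := resπ_surjective M (l' + 1) m
        exact LinearMap.congr_fun hθ v
    rw [← hθ]
    refine (WeakDuality.pair_natural (resι M l) _ θ).symm.trans ?_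
    exact (congrArg (fun z => WeakDuality.pair (j + (l + 1)) (res M l).X z θ) (map_delta (hX l) (j + l) w)).trans
      (by rw [map_zero, LinearMap.zero_apply])

end Killed

end Groth.Agent.SGA2Fin
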