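import Mathlib
import Groth.Agent.SGA2Fin.DualKill
import Groth.Agent.SGA2Fin.Affine
import Groth.Agent.Goren.Apps
import Groth.Agent.Catenary.CM

/-!
Annihilators of local cohomology at the maximal ideal of an image of a Gorenstein local ring.
-/

set_option autoImplicit false

namespace Groth.Agent.SGA2Fin

universe u

open CategoryTheory IsLocalRing

section

variable {S : Type u} [CommRing S] [LocCoh.IsGorensteinLocalRing S]

theorem mem_radical_annihilator_extK (M : FMod S) {a : S} {k : ℕ} {d i : ℕ} (hd : ringKrullDim S = d) (hki : i + k = d)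
    (h : ∀ P : PrimeSpectrum S, a ∉ P.asIdeal → ∀ j : ℕ, P.asIdeal.height = ((k + j : ℕ) : ℕ∞) →
      Subsingleton (LocCoh.H (maximalIdeal (Localization.AtPrime P.asIdeal)) j (LocalizedModule P.asIdeal.primeCompl M.X))) :
    a ∈ (Module.annihilator S (extK M k)).radical := by
  classical
  have := Goren.isGorensteinRing_of_local S
  rw [Ideal.radical_eq_sInf]
  refine Submodule.mem_sInf.2 fun P ⟨hle, hP⟩ => ?_
  by_contra haP
  obtain ⟨h', hh'⟩ := ENat.ne_top_iff_exists.1 (Ideal.height_ne_top (I := P) hP.ne_top)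
  obtain ⟨u, hu, hu'⟩ : ∃ u ∉ P, ∀ v : extK M k, u • v = 0 := by
    by_cases hk : k ≤ h'
    · obtain ⟨j, rfl⟩ : ∃ j, h' = k + j := ⟨h' - k, by omega⟩
      exact exists_kill_extK M ⟨P, hP⟩ (m := j) hh'.symm (h ⟨P, hP⟩ haP j hh'.symm)
    · obtain ⟨G, hG⟩ := (Module.Finite.fg_top : (⊤ : Submodule S (extK M k)).FG)
      have : ∀ g : G, ∃ u ∉ P, u • (g : extK M k) = 0 := fun g => by
        obtain ⟨φ, hφ⟩ := Submodule.Quotient.mk_surjective _ (g : extK M k)
        obtain ⟨u, hu, l, hl, θ, hθ⟩ := exists_kill_cocycle_high M P hh'.symm (not_le.1 hk) φ.1 φ.2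
        refine ⟨u, hu, ?_⟩
        subst hl
        rw [← hφ, ← Submodule.Quotient.mk_smul, Submodule.Quotient.mk_eq_zero]
        exact ⟨θ, hθ⟩
      choose u hu hu' using this
      refine ⟨∏ g : G, u g, fun hmem => ?_, fun v => ?_⟩
      · obtain ⟨g, -, hg⟩ := hP.prod_mem_iff.1 hmem
        exact hu g hg
      · have hv : v ∈ Submodule.span S (G : Set (extK M k)) := hG ▸ Submodule.mem_top
        induction hv using Submodule.span_induction with
        | mem g hg =>
          obtain ⟨c, hc⟩ := Finset.dvd_prod_of_mem u (Finset.mem_univ (⟨g, hg⟩ : G))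
          rw [hc, mul_comm, mul_smul, hu' ⟨g, hg⟩, smul_zero]
        | zero => rw [smul_zero]
        | add x y _ _ hx hy => rw [smul_add, hx, hy, add_zero]
        | smul c x _ hx => rw [smul_comm, hx, smul_zero]
  exact hu (hle (Module.mem_annihilator.2 hu'))

/-- A power of `a` kills `H^i_m(M)` when the matching local cohomology vanishes where `a` is invertible. -/
theorem exists_pow_smul_eq_zero (M : FMod S) {a : S} {d i : ℕ} (hd : ringKrullDim S = d) (hid : i ≤ d)
    (h : ∀ P : PrimeSpectrum S, a ∉ P.asIdeal → ∀ j : ℕ, P.asIdeal.height = (((d - i) + j : ℕ) : ℕ∞) →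
      Subsingleton (LocCoh.H (maximalIdeal (Localization.AtPrime P.asIdeal)) j (LocalizedModule P.asIdeal.primeCompl M.X))) :
    ∃ N : ℕ, ∀ y : LocCoh.H (maximalIdeal S) i M.X, a ^ N • y = 0 := by
  obtain ⟨N, hN⟩ := mem_radical_annihilator_extK M hd (k := d - i) (i := i) (by omega) h
  refine ⟨N, smul_H_eq_zero hd M (j := i) (k := d - i) (by omega) (a ^ N) fun φ hφ => ?_⟩
  have h1 : a ^ N • (Submodule.Quotient.mk ⟨φ, hφ⟩ : extK M (d - i)) = 0 := Module.mem_annihilator.1 hN _
  rw [← Submodule.Quotient.mk_smul, Submodule.Quotient.mk_eq_zero] at h1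
  generalize d - i = k at φ hφ h1 ⊢
  cases k with
  | zero => exact Or.inl ⟨rfl, (Submodule.mem_bot S).1 h1⟩
  | succ l =>
    obtain ⟨θ, hθ⟩ := h1
    exact Or.inr ⟨l, rfl, θ, hθ⟩

end

variable {S R : Type u} [CommRing S] [LocCoh.IsGorensteinLocalRing S] [CommRing R] [IsNoetherianRing R] [IsLocalRing R]
  [Algebra S R] (hπ : Function.Surjective (algebraMap S R)) (M : Type u) [AddCommGroup M] [Module R M] [Module.Finite R M]

theorem exists_dim_quot (p : Ideal R) [p.IsPrime] : ∃ e : ℕ, ringKrullDim (R ⧸ p) = e := by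
  have : IsLocalRing (R ⧸ p) := IsLocalRing.of_surjective' _ Ideal.Quotient.mk_surjective
  exact SerreReg.exists_dim_nat (R ⧸ p)

include hπ in
theorem ringKrullDim_quotient_add_height (p : Ideal R) [p.IsPrime] :
    ringKrullDim (R ⧸ p) + ((p.comap (algebraMap S R)).height : WithBot ℕ∞) = ringKrullDim S := by
  have := Goren.isCohenMacaulay S
  have h1 := Catenary.height_add_dim (p.comap (algebraMap S R))
  let g := Ideal.quotientMap p (algebraMap S R) (le_refl (p.comap (algebraMap S R)))
  have hg : Function.Bijective g := ⟨Ideal.quotientMap_injective, Ideal.quotientMap_surjective hπ⟩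
  rwa [ringKrullDim_eq_of_ringEquiv (RingEquiv.ofBijective g hg)] at h1

include hπ in
/-- When `J` lies in the radical of the annihilator of `H^i_m(M)`, for an image of a Gorenstein local ring. -/
theorem le_radical_annihilator_iff (J : Ideal R) (i : ℕ) :
    J ≤ (Module.annihilator R (LocCoh.H (maximalIdeal R) i M)).radical ↔
      ∀ (p : Ideal R) [p.IsPrime], ¬ J ≤ p → ∀ j : ℕ, (j : WithBot ℕ∞) + ringKrullDim (R ⧸ p) = i →
        Subsingleton (LocCoh.H (maximalIdeal (Localization.AtPrime p)) j (LocalizedModule p.primeCompl M)) := by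
  classical
  have := Goren.isGorensteinRing_of_local S
  letI : Module S M := Module.compHom M (algebraMap S R)
  have : IsScalarTower S R M := ⟨fun x y z => by
    rw [Algebra.smul_def, mul_smul]; rfl⟩
  have : Module.Finite S R := Module.Finite.of_surjective (Algebra.linearMap S R) hπ
  have : Module.Finite S M := Module.Finite.trans R M
  let M' : FMod S := ⟨ModuleCat.of S M, inferInstanceAs (Module.Finite S M)⟩
  obtain ⟨d, hd⟩ := SerreReg.exists_dim_nat S
  have hmax : (maximalIdeal S).map (algebraMap S R) = maximalIdeal R := LocH.map_maximalIdeal_of_surjective hπ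
  obtain ⟨φ, hφ⟩ := LocH.exists_semilinearEquiv (R' := R) (I := maximalIdeal S) i M
  have hann : ∀ b : S, algebraMap S R b ∈ Module.annihilator R (LocCoh.H (maximalIdeal R) i M) ↔
      ∀ y : LocCoh.H (maximalIdeal S) i M, b • y = 0 := by
    intro b
    have h1 : algebraMap S R b ∈ Module.annihilator R (LocCoh.H ((maximalIdeal S).map (algebraMap S R)) i M) ↔
        ∀ y : LocCoh.H (maximalIdeal S) i M, b • y = 0 := by
      rw [Module.mem_annihilator]
      refine ⟨fun h y => ?_, fun h x => φ.injective ((hφ b x).trans ((h _).trans (map_zero φ).symm))⟩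
      obtain ⟨x, rfl⟩ := φ.surjective y
      exact (hφ b x).symm.trans ((congrArg φ (h x)).trans (map_zero φ))
    rw [hmax] at h1
    exact h1
  constructor
  · intro hJ p _ hJp j hj
    obtain ⟨a₁, ha₁, hap⟩ := SetLike.not_le_iff_exists.1 hJp
    obtain ⟨a, rfl⟩ := hπ a₁
    obtain ⟨N, hN⟩ := hJ ha₁
    rw [← map_pow] at hN
    replace hN := (hann _).1 hN
    obtain ⟨h', hh'⟩ := ENat.ne_top_iff_exists.1 ((p.comap (algebraMap S R)).height_ne_top (Ideal.IsPrime.ne_top inferInstance))
    have hsum := ringKrullDim_quotient_add_height hπ p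
    obtain ⟨e, he⟩ : ∃ e : ℕ, ringKrullDim (R ⧸ p) = e := exists_dim_quot p
    rw [he, ← hh', hd] at hsum
    have hsum' : e + h' = d := by
      have h2 : ((e + h' : ℕ) : WithBot ℕ∞) = ((d : ℕ) : WithBot ℕ∞) := by rw [← hsum]; push_cast; rfl
      exact_mod_cast h2
    have hje : j + e = i := by
      rw [he] at hj
      have h2 : ((j + e : ℕ) : WithBot ℕ∞) = ((i : ℕ) : WithBot ℕ∞) := by rw [← hj]; push_cast; rfl
      exact_mod_cast h2
    rw [subsingleton_H_comap (S := S) hπ M p j]
    by_cases hid : d < i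
    · refine subsingleton_H_of_height_lt M _ ?_
      rw [← hh']
      exact_mod_cast (by omega : h' < j)
    refine subsingleton_of_kill_cocycle M' (p.comap (algebraMap S R)) (k := d - i)
      (by rw [← hh']; exact_mod_cast (by omega : h' = j + (d - i)))
      fun ψ hψ => ⟨a ^ N, fun hmem => hap ((Ideal.IsPrime.comap _).mem_of_pow_mem N hmem), ?_⟩
    exact smul_cocycle_eq (d := d) hd M' (j := i) (by omega) (a ^ N) hN ψ hψ
  · intro h b hb
    obtain ⟨a, rfl⟩ := hπ b
    suffices ∃ N : ℕ, ∀ y : LocCoh.H (maximalIdeal S) i M, a ^ N • y = 0 by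
      obtain ⟨N, hN⟩ := this
      exact ⟨N, by rw [← map_pow]; exact (hann _).2 hN⟩
    by_cases hid : d < i
    · have : Subsingleton (LocCoh.H (maximalIdeal S) i M) :=
        LocH.subsingleton_of_supportDim_lt _ _ _ ((Module.supportDim_le_ringKrullDim _ _).trans_lt (by
          rw [hd]; exact_mod_cast hid))
      exact ⟨0, fun y => Subsingleton.elim _ _⟩
    refine exists_pow_smul_eq_zero M' hd (not_lt.1 hid) fun P haP j hP => ?_
    by_cases hker : RingHom.ker (algebraMap S R) ≤ P.asIdeal
    · let p := P.asIdeal.map (algebraMap S R)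
      have : p.IsPrime := Ideal.map_isPrime_of_surjective hπ hker
      have hcomap : p.comap (algebraMap S R) = P.asIdeal := by
        rw [Ideal.comap_map_of_surjective' (algebraMap S R) hπ, sup_eq_left.2 hker]
      have hsum := ringKrullDim_quotient_add_height hπ p
      obtain ⟨e, he⟩ : ∃ e : ℕ, ringKrullDim (R ⧸ p) = e := exists_dim_quot p
      rw [he, hcomap, hP, hd] at hsum
      have hsum' : e + (d - i + j) = d := by
        have h2 : ((e + (d - i + j) : ℕ) : WithBot ℕ∞) = ((d : ℕ) : WithBot ℕ∞) := by rw [← hsum]; push_cast; rfl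
        exact_mod_cast h2
      have key : ∀ (Q : Ideal S) [Q.IsPrime], Q = p.comap (algebraMap S R) →
          Subsingleton (LocCoh.H (maximalIdeal (Localization.AtPrime Q)) j (LocalizedModule Q.primeCompl M)) := by
        intro Q _ e'
        subst e'
        refine (subsingleton_H_comap (S := S) hπ M p j).1 (h p (fun hle => haP ?_) j ?_)
        · rw [← hcomap]; exact hle hb
        · rw [he]
          exact_mod_cast (by omega : j + e = i)
      exact key _ hcomap.symm
    · obtain ⟨r, hr, hrP⟩ := SetLike.not_le_iff_exists.1 hker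
      have : Subsingleton (LocalizedModule P.asIdeal.primeCompl M) := LocalizedModule.subsingleton_iff.2
        fun v => ⟨r, hrP, (algebraMap_smul R r v).symm.trans (by rw [show algebraMap S R r = 0 from hr, zero_smul])⟩
      exact LocH.subsingleton_of_subsingleton (ModuleCat.of (Localization.AtPrime P.asIdeal)
        (LocalizedModule P.asIdeal.primeCompl M)) j

end Groth.Agent.SGA2Fin
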