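import Mathlib
import Groth.Agent.SGA2Fin.Basic
import Groth.Agent.FlatDepth.SkTensor
import Groth.Agent.Catenary.Ring

/-!
Chains of primes in quotients of Gorenstein rings.
-/

set_option autoImplicit false

namespace Groth.Agent.SGA2Fin

universe u

open IsLocalRing

theorem exists_chain {S : Type u} [CommRing S] [LocCoh.IsGorensteinRing S] {A : Type u} [CommRing A] (π : S →+* A)
    (hπ : Function.Surjective π) (p₀ p : PrimeSpectrum A) (h₀ : p₀ ≤ p) :
    ∃ l : LTSeries (Set.Ici p₀), l.last = ⟨p, h₀⟩ ∧
      (p.asIdeal.comap π).height = (p₀.asIdeal.comap π).height + (l.length : ℕ∞) := by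
  let e := Catenary.surjectiveEmbedding π hπ
  have hfin : ∀ z : PrimeSpectrum A, ∃ n : ℕ, (e z).asIdeal.height = (n : ℕ∞) := fun z =>
    (ENat.ne_top_iff_exists.1 ((e z).asIdeal.height_ne_top (e z).isPrime.ne_top)).imp fun _ h => h.symm
  obtain ⟨h0, hh0⟩ := hfin p₀
  have hbound : ∀ (l : LTSeries (Set.Ici p₀)), ((h0 + l.length : ℕ) : ℕ∞) ≤ (e l.last).asIdeal.height := by
    intro l
    rw [PrimeSpectrum.height_eq_orderHeight (e l.last.1)]
    refine le_trans ?_ (LocH.height_add_length_le (l.map (fun z => e z.1) fun a b hab => e.lt_iff_lt.mpr hab))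
    rw [LTSeries.head_map, Nat.cast_add, ← hh0, PrimeSpectrum.height_eq_orderHeight (e p₀)]
    exact add_le_add (Order.height_mono (e.monotone l.head.2)) le_rfl
  obtain ⟨hp', hhp'⟩ := hfin p
  have htfin : Order.height (⟨p, h₀⟩ : Set.Ici p₀) ≠ ⊤ := by
    refine ne_top_of_le_ne_top (ENat.natCast_ne_top hp') (Order.height_le fun l hl => ?_)
    have h := hbound l
    rw [hl, hhp', Nat.cast_le] at h
    exact_mod_cast (by omega : l.length ≤ hp')
  obtain ⟨t, ht⟩ := ENat.ne_top_iff_exists.1 htfin
  obtain ⟨l, hl, hlen⟩ := Order.exists_series_of_height_eq_coe _ ht.symm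
  refine ⟨l, hl, ?_⟩
  have hcov : ∀ i : Fin l.length, e (l i.castSucc).1 ⋖ e (l i.succ).1 := by
    intro i
    refine ⟨e.lt_iff_lt.mpr (l.step i), fun z hz1 hz2 => ?_⟩
    obtain ⟨w, rfl⟩ : z ∈ Set.range e := by
      rw [Catenary.range_surjectiveEmbedding]
      exact (show RingHom.ker π ≤ (e (l i.castSucc).1).asIdeal from Ideal.comap_mono bot_le).trans hz1.le
    let w' : Set.Ici p₀ := ⟨w, (l i.castSucc).2.trans (e.lt_iff_lt.mp hz1).le⟩
    have h1 := Order.length_le_height (p := l.insertNth i w' (e.lt_iff_lt.mp hz1) (e.lt_iff_lt.mp hz2))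
      (x := ⟨p, h₀⟩) (by
        show Fin.insertNth (α := fun _ => Set.Ici p₀) (Fin.castSucc i.succ) w' l.toFun (Fin.last (l.length + 1)) ≤ _
        rw [show Fin.last (l.length + 1) = (Fin.castSucc i.succ).succAbove (Fin.last l.length) from
          (Fin.succ_last _).symm.trans (Fin.succAbove_of_le_castSucc _ _ (Fin.castSucc_le_castSucc_iff.2 (Fin.le_last _))).symm,
          Fin.insertNth_apply_succAbove]
        exact hl.le)
    rw [← ht, Nat.cast_le, RelSeries.insertNth_length] at h1
    omega
  have hh : ∀ i : Fin (l.length + 1), (e (l i).1).asIdeal.height = ((h0 + i : ℕ) : ℕ∞) := by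
    intro i
    induction i using Fin.induction with
    | zero =>
      have : (l 0 : PrimeSpectrum A) = p₀ := by
        refine ((l 0).2.eq_or_lt.resolve_right fun hlt => ?_).symm
        have h1 := Order.length_le_height (p := l.cons ⟨p₀, Set.self_mem_Ici⟩ hlt) (x := ⟨p, h₀⟩)
          (by rw [RelSeries.last_cons, hl])
        rw [← ht, Nat.cast_le, RelSeries.cons_length] at h1
        omega
      rw [this, hh0, Fin.val_zero, add_zero]
    | succ i ih =>
      rw [height_eq_add_one_of_covBy (hcov i), ih, Fin.val_succ, Fin.val_castSucc, ← Nat.cast_one, ← Nat.cast_add]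
      rfl
  have h2 := hh (Fin.last l.length)
  rw [show (l (Fin.last l.length)).1 = p from congrArg Subtype.val hl, Fin.val_last, Nat.cast_add, ← hh0] at h2
  exact h2

theorem height_add_length_le_comap {S : Type u} [CommRing S] {A : Type u} [CommRing A] (π : S →+* A)
    (hπ : Function.Surjective π) (l : LTSeries (PrimeSpectrum A)) :
    (l.head.asIdeal.comap π).height + (l.length : ℕ∞) ≤ (l.last.asIdeal.comap π).height := by
  let e := Catenary.surjectiveEmbedding π hπ
  have h := LocH.height_add_length_le (l.map e e.strictMono)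
  rw [LTSeries.head_map, LTSeries.last_map] at h
  show (e l.head).asIdeal.height + (l.length : ℕ∞) ≤ (e l.last).asIdeal.height
  rw [PrimeSpectrum.height_eq_orderHeight (e l.last), PrimeSpectrum.height_eq_orderHeight (e l.head)]
  exact h

/-- A chain from a point of the support up to `p` bounds the dimension at `p` from below. -/
theorem length_le_supportDim_localized {A : Type u} [CommRing A] (M : Type u) [AddCommGroup M] [Module A M]
    [Module.Finite A M] {p₀ p : PrimeSpectrum A} (h₀ : p₀ ∈ Module.support A M) (h : p₀ ≤ p)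
    (l : LTSeries (Set.Ici p₀)) (hl : l.last = ⟨p, h⟩) :
    ((l.length : ℕ) : WithBot ℕ∞) ≤
      Module.supportDim (Localization.AtPrime p.asIdeal) (LocalizedModule p.asIdeal.primeCompl M) := by
  have hmem : ∀ i, (l i).1 ∈ Module.support A M ∧ (l i).1.asIdeal ≤ p.asIdeal := fun i => by
    refine ⟨Module.mem_support_iff_of_finite.2 ((Module.mem_support_iff_of_finite.1 h₀).trans (l i).2), ?_⟩
    have h2 : l i ≤ l.last := l.monotone (Fin.le_last i)
    rw [hl] at h2
    exact h2
  let l' : LTSeries {x : PrimeSpectrum A // x ∈ Module.support A M ∧ x.asIdeal ≤ p.asIdeal} :=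
    { length := l.length, toFun := fun i => ⟨(l i).1, hmem i⟩, step := fun i => l.step i }
  rw [FlatDepth.supportDim_localized_eq]
  exact Order.LTSeries.length_le_krullDim l'

end Groth.Agent.SGA2Fin
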